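import Mathlib

/-!
# Isometries of a three-dimensional form as a projective linear group

A group acting on a three-dimensional space, fixing a symmetric form and containing a regular
unipotent element, maps to the projective group of degree two with kernel the elements acting
as `±1`.
-/

set_option autoImplicit false

noncomputable section

namespace CfsgLib.SmallLinear.HalfPrime

open Matrix

variable {k : Type*} [Field k]

/-- A traceless matrix attached to a vector. -/
def toTraceless (c : k) : (Fin 3 → k) →ₗ[k] Matrix (Fin 2) (Fin 2) k where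
  toFun z := !![z 1, z 0; -(2 * z 2 + z 1 + c * z 0), -z 1]
  map_add' y z := by
    ext i j
    fin_cases i <;> fin_cases j <;> simp <;> ring
  map_smul' a z := by
    ext i j
    fin_cases i <;> fin_cases j <;> simp <;> ring

theorem toTraceless_apply (c : k) (z : Fin 3 → k) :
    toTraceless c z = !![z 1, z 0; -(2 * z 2 + z 1 + c * z 0), -z 1] := rfl

theorem toTraceless_sq (c : k) (z : Fin 3 → k) :
    toTraceless c z * toTraceless c z =
      (z 1 * z 1 - z 0 * (2 * z 2 + z 1 + c * z 0)) • (1 : Matrix (Fin 2) (Fin 2) k) := by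
  ext i j
  fin_cases i <;> fin_cases j <;> simp [toTraceless_apply, Matrix.mul_apply, Fin.sum_univ_two] <;> ring

theorem toTraceless_injective (h2 : (2 : k) ≠ 0) (c : k) : Function.Injective (toTraceless c) := by
  rw [← LinearMap.ker_eq_bot, LinearMap.ker_eq_bot']
  intro z hz
  have h0 : z 0 = 0 := by simpa [toTraceless_apply] using congrFun (congrFun hz 0) 1
  have h1 : z 1 = 0 := by simpa [toTraceless_apply] using congrFun (congrFun hz 0) 0
  have h3 : z 2 = 0 := by simpa [toTraceless_apply, h0, h1, h2] using congrFun (congrFun hz 1) 0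
  funext i
  fin_cases i <;> assumption

/-- An anticommuting pair of square-zero matrices with anticommutator one and a third element
give a twisted conjugation. -/
theorem exists_frame (h2 : (2 : k) ≠ 0) (E F H : Matrix (Fin 2) (Fin 2) k) (hE : E * E = 0) (hF : F * F = 0)
    (hH : H * H = 1) (hEF : E * F + F * E = 1) (hHE : H * E + E * H = 0) (hHF : H * F + F * H = 0) :
    ∃ (P : GL (Fin 2) k) (ε : k), (ε = 1 ∨ ε = -1) ∧ E * P.val = ε • (P.val * !![0, 1; 0, 0]) ∧
      F * P.val = ε • (P.val * !![0, 0; 1, 0]) ∧ H * P.val = ε • (P.val * !![1, 0; 0, -1]) := by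
  have hE0 : E ≠ 0 := fun h => one_ne_zero (α := Matrix (Fin 2) (Fin 2) k) (by rw [← hEF, h, zero_mul, mul_zero, add_zero])
  obtain ⟨w, hw⟩ : ∃ w, E *ᵥ w ≠ 0 := by
    by_contra hcon
    push_neg at hcon
    refine hE0 (Matrix.toLin'.injective ?_)
    refine LinearMap.ext fun w => ?_
    simp [hcon w]
  set v := E *ᵥ w with hv
  set u := F *ᵥ v with hu
  have hEv : E *ᵥ v = 0 := by rw [hv, mulVec_mulVec, hE, zero_mulVec]
  have hEu : E *ᵥ u = v := by
    have h := congrArg (fun A => A *ᵥ v) hEF
    simp only [add_mulVec, one_mulVec, ← mulVec_mulVec, hEv, mulVec_zero, add_zero] at h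
    exact h
  have hFu : F *ᵥ u = 0 := by rw [hu, mulVec_mulVec, hF, zero_mulVec]
  set P₀ : Matrix (Fin 2) (Fin 2) k := Matrix.of fun i j => if j = 0 then v i else u i with hP₀
  have hcol : ∀ z, P₀ *ᵥ z = z 0 • v + z 1 • u := fun z => by
    funext i
    simp [hP₀, Matrix.mulVec, dotProduct, Fin.sum_univ_two, mul_comm]
  have hdet : P₀.det ≠ 0 := by
    intro h
    obtain ⟨z, hz, hz0⟩ := Matrix.exists_mulVec_eq_zero_iff.mpr h
    rw [hcol] at hz0
    have h1 := congrArg (fun r => E *ᵥ r) hz0
    simp only [mulVec_add, mulVec_smul, hEv, smul_zero, zero_add, hEu, mulVec_zero, smul_eq_zero] at h1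
    have h1' := h1.resolve_right hw
    rw [h1', zero_smul, add_zero, smul_eq_zero] at hz0
    refine hz (funext fun i => ?_)
    fin_cases i
    · exact hz0.resolve_right hw
    · exact h1'
  set P := Matrix.GeneralLinearGroup.mkOfDetNeZero P₀ hdet with hP
  have hPv : P.val = P₀ := rfl
  have hext : ∀ A B : Matrix (Fin 2) (Fin 2) k, (∀ z, A *ᵥ z = B *ᵥ z) → A = B := fun A B h =>
    Matrix.toLin'.injective (LinearMap.ext fun z => by simpa using h z)
  have eE : E * P₀ = P₀ * !![0, 1; 0, 0] := hext _ _ fun z => by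
    rw [← mulVec_mulVec, ← mulVec_mulVec, hcol, hcol, mulVec_add, mulVec_smul, mulVec_smul, hEv, hEu]
    simp [Matrix.mulVec, dotProduct, Fin.sum_univ_two]
  have eF : F * P₀ = P₀ * !![0, 0; 1, 0] := hext _ _ fun z => by
    rw [← mulVec_mulVec, ← mulVec_mulVec, hcol, hcol, mulVec_add, mulVec_smul, mulVec_smul, hFu, ← hu]
    simp [Matrix.mulVec, dotProduct, Fin.sum_univ_two]
  set K := P⁻¹.val * H * P.val with hK
  have cancel : P.val * P⁻¹.val = 1 := by rw [← Units.val_mul, mul_inv_cancel, Units.val_one]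
  have cancel' : P⁻¹.val * P.val = 1 := by rw [← Units.val_mul, inv_mul_cancel, Units.val_one]
  have hHP : H * P.val = P.val * K := by
    rw [hK]
    simp only [← mul_assoc]
    rw [cancel, one_mul]
  have key : ∀ A A' : Matrix (Fin 2) (Fin 2) k, A * P.val = P.val * A' → H * A + A * H = 0 →
      K * A' + A' * K = 0 := by
    intro A A' hA h
    have h' : P.val * (K * A' + A' * K) = 0 := by
      rw [mul_add, ← mul_assoc, ← hHP, ← mul_assoc, ← hA, mul_assoc, ← hA, mul_assoc, ← hHP, ← mul_assoc,
        ← mul_assoc, ← add_mul, h, zero_mul]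
    rw [← one_mul (K * A' + A' * K), ← cancel', mul_assoc, h', mul_zero]
  have kE := key _ _ (hPv ▸ eE) hHE
  have kF := key _ _ (hPv ▸ eF) hHF
  have hKK : K * K = 1 := by
    rw [hK, show P⁻¹.val * H * P.val * (P⁻¹.val * H * P.val) = P⁻¹.val * H * (P.val * P⁻¹.val) * H * P.val by
      simp only [mul_assoc], cancel, mul_one, mul_assoc (P⁻¹.val) H H, hH, mul_one, cancel']
  have k10 : K 1 0 = 0 := by
    have h := congrFun (congrFun kE 0) 0
    rw [Matrix.add_apply, Matrix.mul_apply, Matrix.mul_apply, Fin.sum_univ_two, Fin.sum_univ_two] at h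
    simpa using h
  have k01 : K 0 1 = 0 := by
    have h := congrFun (congrFun kF 0) 0
    rw [Matrix.add_apply, Matrix.mul_apply, Matrix.mul_apply, Fin.sum_univ_two, Fin.sum_univ_two] at h
    simpa using h
  have k11 : K 1 1 = -K 0 0 := by
    have h := congrFun (congrFun kE 0) 1
    rw [Matrix.add_apply, Matrix.mul_apply, Matrix.mul_apply, Fin.sum_univ_two, Fin.sum_univ_two] at h
    simp at h
    linear_combination h
  have hKform : K = K 0 0 • !![1, 0; 0, -1] := by
    ext i j
    fin_cases i <;> fin_cases j <;> simp [k10, k01, k11]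
  have hsq : K 0 0 = 1 ∨ K 0 0 = -1 := by
    have h := congrFun (congrFun hKK 0) 0
    rw [Matrix.mul_apply, Fin.sum_univ_two, k01, zero_mul, add_zero] at h
    exact mul_self_eq_one_iff.mp (by simpa using h)
  rcases hsq with h | h
  · refine ⟨P, 1, Or.inl rfl, ?_, ?_, ?_⟩
    · rw [one_smul, hPv, eE]
    · rw [one_smul, hPv, eF]
    · rw [one_smul, hHP]
      rw [hKform, h, one_smul]
  · let D : GL (Fin 2) k := Matrix.GeneralLinearGroup.mkOfDetNeZero !![1, 0; 0, -1] (by simp [Matrix.det_fin_two])
    have hD : D.val = !![1, 0; 0, -1] := rfl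
    refine ⟨P * D, -1, Or.inr rfl, ?_, ?_, ?_⟩
    · rw [Units.val_mul, hD, ← mul_assoc, hPv, eE, mul_assoc, mul_assoc, ← Matrix.mul_smul]
      congr 1
      ext i j; fin_cases i <;> fin_cases j <;> simp
    · rw [Units.val_mul, hD, ← mul_assoc, hPv, eF, mul_assoc, mul_assoc, ← Matrix.mul_smul]
      congr 1
      ext i j; fin_cases i <;> fin_cases j <;> simp
    · rw [Units.val_mul, hD, ← mul_assoc, hHP, hKform, h, mul_assoc, mul_assoc, ← Matrix.mul_smul]
      congr 1
      ext i j; fin_cases i <;> fin_cases j <;> simp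

variable {G : Type*} [Group G]

/-- The homomorphism to the projective group of degree two. -/
theorem exists_hom_PGL (h2 : (2 : k) ≠ 0) (M : G →* Module.End k (Fin 3 → k))
    (B : (Fin 3 → k) →ₗ[k] (Fin 3 → k) →ₗ[k] k) (x : G)
    (hMx : ∀ z, M x z = ![z 0, z 1 + z 0, z 2 + z 1]) (hB : ∀ g y z, B (M g y) (M g z) = B y z)
    (hsymm : ∀ y z, B y z = B z y) (hBv : ∀ z, B ![0, 0, 1] z = z 0) :
    ∃ Θ : G →* Matrix.ProjGenLinGroup (Fin 2) k, Θ x ≠ 1 ∧ (∀ g, M g = 1 → Θ g = 1) ∧
      ∀ h, Θ h = 1 → M h = 1 ∨ M h = -1 := by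
  set c := B ![1, 0, 0] ![1, 0, 0] with hc
  have hdec : ∀ z : Fin 3 → k, z = z 0 • ![1, 0, 0] + z 1 • ![0, 1, 0] + z 2 • ![0, 0, 1] := fun z => by
    funext i; fin_cases i <;> simp
  have b02 : B ![1, 0, 0] ![0, 0, 1] = 1 := by rw [hsymm, hBv]; simp
  have b12 : B ![0, 1, 0] ![0, 0, 1] = 0 := by rw [hsymm, hBv]; simp
  have b22 : B ![0, 0, 1] ![0, 0, 1] = 0 := by rw [hBv]; simp
  have x0 : M x ![1, 0, 0] = ![1, 0, 0] + ![0, 1, 0] := by rw [hMx]; funext i; fin_cases i <;> simp
  have x1 : M x ![0, 1, 0] = ![0, 1, 0] + ![0, 0, 1] := by rw [hMx]; funext i; fin_cases i <;> simp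
  have b11 : B ![0, 1, 0] ![0, 1, 0] = -1 := by
    have h := hB x ![1, 0, 0] ![0, 1, 0]
    simp only [x0, x1, map_add, LinearMap.add_apply, b02, b12] at h
    linear_combination h
  have b01 : 2 * B ![1, 0, 0] ![0, 1, 0] = 1 := by
    have h := hB x ![1, 0, 0] ![1, 0, 0]
    simp only [x0, map_add, LinearMap.add_apply, hsymm ![0, 1, 0] ![1, 0, 0], b11] at h
    linear_combination h
  have hq : ∀ z, B z z = z 0 * (2 * z 2 + z 1 + c * z 0) - z 1 * z 1 := by
    intro z
    conv_lhs => rw [hdec z]
    simp only [map_add, map_smul, LinearMap.add_apply, LinearMap.smul_apply, smul_eq_mul,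
      hsymm ![0, 1, 0] ![1, 0, 0], hsymm ![0, 0, 1] ![1, 0, 0], hsymm ![0, 0, 1] ![0, 1, 0], b02, b12, b22, b11, ← hc]
    linear_combination (z 0 * z 1) * b01
  set W := toTraceless c with hW
  have hWsq : ∀ g z, W (M g z) * W (M g z) = W z * W z := by
    intro g z
    rw [hW, toTraceless_sq, toTraceless_sq]
    congr 1
    have := hB g z z
    rw [hq, hq] at this
    linear_combination -this
  have hWpol : ∀ g y z, W (M g y) * W (M g z) + W (M g z) * W (M g y) = W y * W z + W z * W y := by
    intro g y z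
    have h := hWsq g (y + z)
    simp only [map_add, mul_add, add_mul] at h
    rw [hWsq g y, hWsq g z] at h
    linear_combination (norm := module) h
  have hWinj := toTraceless_injective h2 c
  -- the three standard vectors
  have h22 : (2 : k) * 2⁻¹ = 1 := mul_inv_cancel₀ h2
  set zE : Fin 3 → k := ![1, 0, -(2⁻¹ * c)] with hzE
  set zF : Fin 3 → k := ![0, 0, -(2⁻¹)] with hzF
  set zH : Fin 3 → k := ![0, 1, -(2⁻¹)] with hzH
  have wE : W zE = !![0, 1; 0, 0] := by
    rw [hW, toTraceless_apply]
    ext i j; fin_cases i <;> fin_cases j <;> simp [hzE]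
    linear_combination c * h22
  have wF : W zF = !![0, 0; 1, 0] := by
    rw [hW, toTraceless_apply]
    ext i j; fin_cases i <;> fin_cases j <;> simp [hzF, h2]
  have wH : W zH = !![1, 0; 0, -1] := by
    rw [hW, toTraceless_apply]
    ext i j; fin_cases i <;> fin_cases j <;> simp [hzH, h2]
  have hexp : ∀ z, z = z 0 • zE + z 1 • zH + (-(2 * z 2 + z 1 + c * z 0)) • zF := fun z => by
    funext i
    fin_cases i <;> simp [hzE, hzH, hzF]
    linear_combination -(z 2) * h22
  have hex : ∀ g, ∃ (P : GL (Fin 2) k) (ε : k), (ε = 1 ∨ ε = -1) ∧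
      ∀ z, W (M g z) * P.val = ε • (P.val * W z) := by
    intro g
    obtain ⟨P, ε, hε, eE, eF, eH⟩ := exists_frame h2 (W (M g zE)) (W (M g zF)) (W (M g zH))
      (by rw [hWsq, wE]; ext i j; fin_cases i <;> fin_cases j <;> simp)
      (by rw [hWsq, wF]; ext i j; fin_cases i <;> fin_cases j <;> simp)
      (by rw [hWsq, wH]; ext i j; fin_cases i <;> fin_cases j <;> simp)
      (by rw [hWpol, wE, wF]; ext i j; fin_cases i <;> fin_cases j <;> simp)
      (by rw [hWpol, wE, wH]; ext i j; fin_cases i <;> fin_cases j <;> simp)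
      (by rw [hWpol, wF, wH]; ext i j; fin_cases i <;> fin_cases j <;> simp)
    refine ⟨P, ε, hε, fun z => ?_⟩
    conv_lhs => rw [hexp z]
    conv_rhs => rw [hexp z]
    simp only [map_add, map_smul, add_mul, mul_add, smul_mul_assoc, mul_smul_comm, smul_add, eE, eF, eH, wE, wF, wH]
    simp only [smul_smul, mul_comm ε]
  choose P ε hε hP using hex
  have huniq : ∀ g (Q : GL (Fin 2) k) (η : k), (η = 1 ∨ η = -1) → (∀ z, W (M g z) * Q.val = η • (Q.val * W z)) →
      η = ε g ∧ Matrix.ProjGenLinGroup.mk Q = Matrix.ProjGenLinGroup.mk (P g) := by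
    intro g Q η hη hQ
    have hεε : ε g * ε g = 1 := by rcases hε g with h | h <;> rw [h] <;> ring
    set R := ((P g)⁻¹ * Q).val with hR
    have hc' : ∀ z, W z * R = (η * ε g) • (R * W z) := by
      intro z
      have hPP : (P g).val * R = Q.val := by rw [hR, ← Units.val_mul, mul_inv_cancel_left]
      have h1 : (P g).val * (W z * R) = (P g).val * ((η * ε g) • (R * W z)) := by
        have h3 : W (M g z) * Q.val = ε g • ((P g).val * W z * R) := by
          rw [← hPP, ← mul_assoc, hP g z, smul_mul_assoc]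
        rw [hQ] at h3
        rw [mul_smul_comm, ← mul_assoc, ← mul_assoc, hPP, mul_comm η, mul_smul, h3, smul_smul, hεε, one_smul]
      have h2' := congrArg (fun A => (P g)⁻¹.val * A) h1
      simpa only [← mul_assoc, ← Units.val_mul, inv_mul_cancel, Units.val_one, one_mul] using h2'
    have eE := hc' zE
    have eF := hc' zF
    have eH := hc' zH
    rw [wE] at eE; rw [wF] at eF; rw [wH] at eH
    have hηε : η * ε g = 1 := by
      rcases hη with h | h <;> rcases hε g with h' | h' <;> rw [h, h'] at eE eF eH ⊢ <;>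
        (try ring_nf) <;> exfalso
      all_goals
        have a00 := congrFun (congrFun eH 0) 0
        have a11 := congrFun (congrFun eH 1) 1
        have a01 := congrFun (congrFun eE 0) 0
        have a10 := congrFun (congrFun eF 0) 0
        simp [Matrix.mul_apply, Fin.sum_univ_two] at a00 a11 a01 a10
        have r00 : R 0 0 = 0 := (mul_eq_zero.mp (show (2 : k) * R 0 0 = 0 by linear_combination a00)).resolve_left h2
        have r11 : R 1 1 = 0 := (mul_eq_zero.mp (show (2 : k) * R 1 1 = 0 by linear_combination -a11)).resolve_left h2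
        have hdet : R.det ≠ 0 := by
          rw [hR]
          exact (Matrix.GeneralLinearGroup.det ((P g)⁻¹ * Q)).ne_zero
        refine hdet ?_
        rw [Matrix.det_fin_two, r00, r11, a01]
        ring
    refine ⟨?_, ?_⟩
    · calc η = η * (ε g * ε g) := by rw [hεε, mul_one]
        _ = ε g := by rw [← mul_assoc, hηε, one_mul]
    · rw [hηε, one_smul] at eE eF
      have a01 := congrFun (congrFun eE 0) 0
      have a11 := congrFun (congrFun eE 0) 1
      have a10 := congrFun (congrFun eF 0) 0
      rw [Matrix.mul_apply, Matrix.mul_apply, Fin.sum_univ_two, Fin.sum_univ_two] at a01 a11 a10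
      simp at a01 a11 a10
      have e10' : R 1 0 = 0 := by linear_combination a01
      have e11' : R 1 1 = R 0 0 := by linear_combination a11
      have e01' : R 0 1 = 0 := by linear_combination -a10
      have hdet : R.det ≠ 0 := by
        rw [hR]
        exact (Matrix.GeneralLinearGroup.det ((P g)⁻¹ * Q)).ne_zero
      have hr : R 0 0 ≠ 0 := fun h => hdet (by rw [Matrix.det_fin_two, e11', e10', h]; ring)
      refine (Matrix.ProjGenLinGroup.mk_eq_mk_iff.mpr ⟨Units.mk0 _ hr, ?_⟩).symm
      have hsc : (Matrix.GeneralLinearGroup.scalar (Fin 2) (Units.mk0 _ hr)) = (P g)⁻¹ * Q := by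
        refine Units.ext ?_
        ext i j
        rw [← hR]
        fin_cases i <;> fin_cases j
        · simp [Matrix.scalar_apply]
        · simpa [Matrix.scalar_apply] using e01'.symm
        · simpa [Matrix.scalar_apply] using e10'.symm
        · simpa [Matrix.scalar_apply] using e11'.symm
      rw [hsc, mul_inv_cancel_left]
  let Θ : G →* Matrix.ProjGenLinGroup (Fin 2) k := MonoidHom.mk' (fun g => Matrix.ProjGenLinGroup.mk (P g))
    fun g h => by
      rw [← map_mul]
      refine ((huniq (g * h) (P g * P h) (ε g * ε h) ?_ fun z => ?_).2).symm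
      · rcases hε g with a | a <;> rcases hε h with b | b <;> simp [a, b]
      · rw [map_mul M, Module.End.mul_apply, Units.val_mul, ← mul_assoc, hP g, smul_mul_assoc, mul_assoc, hP h,
          mul_smul_comm, smul_smul, ← mul_assoc]
  have hker : ∀ h, Θ h = 1 → M h = 1 ∨ M h = -1 := by
    intro h hh
    obtain ⟨u, hu⟩ := Matrix.ProjGenLinGroup.mk_eq_mk_iff.mp (show Matrix.ProjGenLinGroup.mk 1 =
      Matrix.ProjGenLinGroup.mk (P h) from (Matrix.ProjGenLinGroup.mk_one).trans hh.symm)
    have hPs : (P h).val = (u : k) • (1 : Matrix (Fin 2) (Fin 2) k) := by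
      rw [← hu, one_mul]
      ext i j; fin_cases i <;> fin_cases j <;> simp [Matrix.scalar_apply]
    have hz : ∀ z, W (M h z) = ε h • W z := by
      intro z
      have := hP h z
      rw [hPs, mul_smul_comm, smul_mul_assoc, mul_one, one_mul, smul_comm] at this
      exact smul_right_injective _ u.ne_zero this
    rcases hε h with a | a
    · exact Or.inl (LinearMap.ext fun z => hWinj (by rw [hz, a, one_smul, Module.End.one_apply]))
    · exact Or.inr (LinearMap.ext fun z => hWinj (by
        rw [hz, a, LinearMap.neg_apply, Module.End.one_apply, map_neg, neg_smul, one_smul]))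
  refine ⟨Θ, fun h => ?_, fun g hg => ?_, hker⟩
  · rcases hker x h with e | e
    · have := congrFun (LinearMap.congr_fun e ![1, 0, 0]) 1
      rw [hMx] at this
      simp at this
    · have := congrFun (LinearMap.congr_fun e ![1, 0, 0]) 0
      rw [hMx] at this
      simp at this
      exact h2 (by linear_combination this)
  · rw [← Matrix.ProjGenLinGroup.mk_one]
    refine ((huniq g 1 1 (Or.inl rfl) fun z => ?_).2).symm
    rw [hg, Module.End.one_apply, Units.val_one, one_smul, mul_one, one_mul]

end CfsgLib.SmallLinear.HalfPrime
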