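import Cfsg.Agent.S4503
import Cfsg.Agent.Lib.CharNormal.SmallLinearPrime
import Cfsg.Agent.Lib.CharNormal.ItoCoprime
import Cfsg.Agent.Lib.PrimeDegreeTwo.Faithful.Local
import Cfsg.Agent.Lib.Char.Ortho

/-!
# Groups with a faithful character of degree `(p - 1) / 2`

Standing hypothesis: the Sylow `p`-subgroups have order at most `p` and are not normal.
-/

set_option autoImplicit false

noncomputable section

namespace CfsgLib.SmallLinear.HalfPrime

open Cfsg CfsgLib.Char
open scoped ComplexConjugate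

universe u

variable {G : Type u} [Group G] [Finite G] {p : ℕ} [hp : Fact p.Prime] {χ : G → ℂ} {d : ℕ}

/-- A Sylow subgroup inside a normal commutative subgroup is normal. -/
theorem normal_of_le_comm (P : Sylow p G) (M : Subgroup G) [M.Normal] (hPM : (P : Subgroup G) ≤ M)
    (hM : ∀ a ∈ M, ∀ b ∈ M, a * b = b * a) : (P : Subgroup G).Normal := by
  have hQ : (P.subtype hPM : Subgroup M).Normal := ⟨fun x hx g => by
    have h : g * x * g⁻¹ = x := by
      rw [show g * x = x * g from Subtype.ext (hM _ g.2 _ x.2), mul_inv_cancel_right]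
    rwa [h]⟩
  have hchar := (P.subtype hPM).characteristic_of_normal hQ
  have h2 : ((P.subtype hPM : Subgroup M).map M.subtype).Normal := inferInstance
  rwa [Sylow.coe_subtype, Subgroup.map_subgroupOf_eq_of_le hPM] at h2

/-- The character is irreducible. -/
theorem isIrr_of_faithful (hsq : ¬ p ^ 2 ∣ Nat.card G) (P : Sylow p G) (hP : ¬ (P : Subgroup G).Normal)
    (hχ : IsCharacter G χ) (hfaith : ∀ g, χ g = χ 1 → g = 1) (hd : χ 1 = d) (hdp : 2 * d + 1 = p) :
    IsIrrCharacter G χ := by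
  classical
  have := Fintype.ofFinite G
  obtain ⟨m, hm, -⟩ := char_decomp hχ
  have hdeg : ∀ ψ : IrrCharacter G, ∃ n : ℕ, 0 < n ∧ (ψ : G → ℂ) 1 = n := fun ψ => exists_degree_pos ψ.2
  choose n hn0 hn using hdeg
  have hsum : ∑ ψ, m ψ * n ψ = d := by
    have h := congrFun hm 1
    simp only [Finset.sum_apply, Pi.smul_apply, smul_eq_mul, hn, hd] at h
    exact_mod_cast h.symm
  by_cases hbig : ∃ ψ, m ψ ≠ 0 ∧ d ≤ n ψ
  · obtain ⟨ψ, hψ, hdn⟩ := hbig
    have hsplit := Finset.add_sum_erase Finset.univ (fun φ => m φ * n φ) (Finset.mem_univ ψ)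
    rw [hsum] at hsplit
    have hle : n ψ ≤ m ψ * n ψ := Nat.le_mul_of_pos_left _ (Nat.pos_of_ne_zero hψ)
    have hrest : ∀ φ, φ ≠ ψ → m φ = 0 := fun φ hφ => by
      have hz : ∑ φ ∈ Finset.univ.erase ψ, m φ * n φ = 0 := by omega
      have := (Finset.sum_eq_zero_iff.mp hz) φ (by simp [hφ])
      exact (Nat.mul_eq_zero.mp this).resolve_right (hn0 φ).ne'
    have h1 : m ψ = 1 := by
      have h2 : m ψ * n ψ = n ψ := by omega
      exact (Nat.mul_eq_right (hn0 ψ).ne').mp h2
    rw [hm, Finset.sum_eq_single ψ (fun φ _ hne => by simp [hrest φ hne]) (by simp), h1]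
    simpa using ψ.2
  push Not at hbig
  exfalso
  set O := Subgroup.normalClosure ((P : Subgroup G) : Set G) with hO
  refine hP (normal_of_le_comm P O Subgroup.subset_normalClosure fun a ha b hb => ?_)
  have key : ∀ ψ : IrrCharacter G, m ψ ≠ 0 → (ψ : G → ℂ) (a * b * (b * a)⁻¹) = (ψ : G → ℂ) 1 := by
    intro ψ hψ
    obtain ⟨k, ρ, hρ⟩ := isCharacter_of_isIrr ψ.2
    have hK : ∀ g, ρ g = 1 → g ∈ MonoidHom.ker ρ := fun g h => h
    let ρ' : Representation ℂ (G ⧸ MonoidHom.ker ρ) (Fin k → ℂ) := QuotientGroup.lift _ ρ le_rfl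
    have hρ' : ∀ g : G, ρ' (g : G ⧸ MonoidHom.ker ρ) = ρ g := fun g => rfl
    have hf' : ∀ q, ρ'.character q = ρ'.character 1 → q = 1 := by
      intro q hq
      obtain ⟨g, rfl⟩ := QuotientGroup.mk_surjective q
      rw [Representation.char_one] at hq
      exact (QuotientGroup.eq_one_iff g).mpr (hK g (by
        rw [← hρ']; exact (character_eq_degree_iff ρ' _).mp hq))
    have hkn : (k : ℂ) = n ψ := by
      rw [← hn ψ, ← hρ, Representation.char_one, Module.finrank_fin_fun]
    have hlt : 2 * k + 1 < p := by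
      have h1 : k = n ψ := by exact_mod_cast hkn
      have := hbig ψ hψ
      omega
    have hsq' : ¬ p ^ 2 ∣ Nat.card (G ⧸ MonoidHom.ker ρ) := fun h =>
      hsq (h.trans (Subgroup.card_quotient_dvd_card _))
    let P' : Sylow p (G ⧸ MonoidHom.ker ρ) := P.mapSurjective (QuotientGroup.mk'_surjective _)
    have hP'n : (P' : Subgroup (G ⧸ MonoidHom.ker ρ)).Normal :=
      Cfsg.Agent.S4503.main p _ (G ⧸ MonoidHom.ker ρ) rfl hsq' ρ'.character k (isCharacter_char ρ') hf'
        (by rw [Representation.char_one, Module.finrank_fin_fun]) hlt P'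
    obtain ⟨i, hi⟩ := IsPGroup.iff_card.mp P'.isPGroup'
    have hi1 : i ≤ 1 := by
      by_contra h
      exact hsq' ((pow_dvd_pow p (show 2 ≤ i by omega)).trans (hi ▸ Subgroup.card_subgroup_dvd_card _))
    have hcyc : IsCyclic (P' : Subgroup (G ⧸ MonoidHom.ker ρ)) := by
      rcases Nat.le_one_iff_eq_zero_or_eq_one.mp hi1 with rfl | rfl
      · haveI : Subsingleton (P' : Subgroup (G ⧸ MonoidHom.ker ρ)) :=
          (Nat.card_eq_one_iff_unique.mp (by simpa using hi)).1
        infer_instance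
      · exact isCyclic_of_prime_card (p := p) (by simpa using hi)
    have hOle : O ≤ (P' : Subgroup (G ⧸ MonoidHom.ker ρ)).comap (QuotientGroup.mk' _) :=
      Subgroup.normalClosure_le_normal fun g hg => ⟨g, hg, rfl⟩
    letI := IsCyclic.commGroup (α := (P' : Subgroup (G ⧸ MonoidHom.ker ρ)))
    have hc := congrArg Subtype.val (mul_comm
      (⟨_, hOle ha⟩ : (P' : Subgroup (G ⧸ MonoidHom.ker ρ))) ⟨_, hOle hb⟩)
    have hmem : a * b * (b * a)⁻¹ ∈ MonoidHom.ker ρ := by
      rw [← QuotientGroup.eq_one_iff, QuotientGroup.mk_mul _ (a * b) (b * a)⁻¹, QuotientGroup.mk_inv,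
        mul_inv_eq_one, QuotientGroup.mk_mul, QuotientGroup.mk_mul]
      exact hc
    rw [← hρ, Representation.char_one]
    exact (character_eq_degree_iff ρ _).mpr hmem
  refine mul_inv_eq_one.mp (hfaith _ ?_)
  rw [hm]
  simp only [Finset.sum_apply, Pi.smul_apply]
  refine Finset.sum_congr rfl fun ψ _ => ?_
  by_cases hψ : m ψ = 0
  · simp [hψ]
  · rw [key ψ hψ]

/-- Central elements act as scalars. -/
theorem norm_center (hsq : ¬ p ^ 2 ∣ Nat.card G) (P : Sylow p G) (hP : ¬ (P : Subgroup G).Normal)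
    (hχ : IsCharacter G χ) (hfaith : ∀ g, χ g = χ 1 → g = 1) (hd : χ 1 = d) (hdp : 2 * d + 1 = p)
    {z : G} (hz : z ∈ Subgroup.center G) : ‖χ z‖ = (d : ℝ) := by
  have := Fintype.ofFinite G
  have h := CfsgLib.CharNormal.SmallPrime.normSq_central (isIrr_of_faithful hsq P hP hχ hfaith hd hdp) hz
  rw [hd, Complex.mul_conj'] at h
  have h2 : ‖χ z‖ ^ 2 = ((d : ℝ)) ^ 2 := by
    rw [pow_two (d : ℝ)]; exact_mod_cast h
  exact (pow_left_inj₀ (norm_nonneg _) (Nat.cast_nonneg d) two_ne_zero).mp h2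

/-- Normal `p'`-subgroups are central. -/
theorem le_center_of_coprime (hsq : ¬ p ^ 2 ∣ Nat.card G) (hP : ∀ P : Sylow p G, ¬ (P : Subgroup G).Normal)
    (hχ : IsCharacter G χ) (hfaith : ∀ g, χ g = χ 1 → g = 1) (hd : χ 1 = d) (hdp : 2 * d + 1 = p)
    (K : Subgroup G) [K.Normal] (hK : ¬ p ∣ Nat.card K) : K ≤ Subgroup.center G := by
  have := Fintype.ofFinite G
  have hd0 : 1 ≤ d := by have := hp.out.two_le; omega
  have hcent : ∀ P : Sylow p G, ∀ a ∈ K, ∀ x ∈ (P : Subgroup G), x * a = a * x := by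
    intro P a ha x hx
    set L := K ⊔ (P : Subgroup G) with hL
    have hPL : (P : Subgroup G) ≤ L := le_sup_right
    haveI : (K.subgroupOf L).Normal := inferInstance
    have hKL : (K.subgroupOf L ⊔ (P.subtype hPL : Subgroup L)) = ⊤ := by
      rw [Sylow.coe_subtype, ← Subgroup.subgroupOf_sup le_sup_left hPL]
      exact Subgroup.subgroupOf_self L
    rcases CfsgLib.CharNormal.sylow_normal_or_extreme (χ := fun g : L => χ g) (n := d) (isCharacter_res L hχ)
      (fun g h => Subtype.ext (hfaith _ h)) hd (by omega) (P.subtype hPL)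
      (K := K.subgroupOf L) (by
        rw [Nat.card_congr (Subgroup.subgroupOfEquivOfLe (le_sup_left : K ≤ L)).toEquiv]; exact hK)
      (by rw [hKL]; infer_instance) with h | ⟨h, -⟩
    · have hmem : x * a * x⁻¹ * a⁻¹ ∈ K ⊓ (P : Subgroup G) := by
        refine ⟨K.mul_mem (Subgroup.Normal.conj_mem inferInstance a ha x) (K.inv_mem ha), ?_⟩
        have h1 := h.conj_mem ⟨x, hPL hx⟩⁻¹ (by
          rw [Sylow.coe_subtype, Subgroup.mem_subgroupOf]; exact inv_mem hx) ⟨a, le_sup_left (b := (P : Subgroup G)) ha⟩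
        rw [Sylow.coe_subtype, Subgroup.mem_subgroupOf] at h1
        have h1' : a * x⁻¹ * a⁻¹ ∈ (P : Subgroup G) := h1
        have h2 := mul_mem hx h1'
        rwa [← mul_assoc, ← mul_assoc] at h2
      have hbot : K ⊓ (P : Subgroup G) = ⊥ := by
        refine Subgroup.inf_eq_bot_of_coprime ?_
        obtain ⟨i, hi⟩ := IsPGroup.iff_card.mp P.isPGroup'
        rw [hi]
        exact (((hp.out.coprime_iff_not_dvd).mpr hK).symm).pow_right i
      rw [hbot, Subgroup.mem_bot, mul_inv_eq_one, mul_inv_eq_iff_eq_mul] at hmem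
      exact hmem
    · omega
  intro g hg
  set S := Subgroup.centralizer ({g} : Set G) with hS
  have hPS : ∀ P : Sylow p G, (P : Subgroup G) ≤ S := fun P x hx => by
    rw [hS, Subgroup.mem_centralizer_singleton_iff]
    exact hcent P g hg x hx
  obtain ⟨P⟩ := (inferInstance : Nonempty (Sylow p G))
  have hPn : ¬ (P.subtype (hPS P) : Subgroup S).Normal := by
    intro h
    haveI := Sylow.unique_of_normal (P.subtype (hPS P)) h
    haveI : Subsingleton (Sylow p G) := ⟨fun Q R => Sylow.subtype_injective (hP := hPS Q) (hQ := hPS R)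
      (Subsingleton.elim _ _)⟩
    exact hP P P.normal_of_subsingleton
  have hgS : g ∈ S := by rw [hS, Subgroup.mem_centralizer_singleton_iff]
  refine CfsgLib.PrimeDegreeTwo.Faithful.mem_center_of_norm hχ hfaith hd ?_
  exact norm_center (χ := fun y : S => χ y) (fun h => hsq (h.trans S.card_subgroup_dvd_card)) _ hPn
    (isCharacter_res S hχ) (fun y h => Subtype.ext (hfaith _ h)) hd hdp
    (z := ⟨g, hgS⟩) (Subgroup.mem_center_iff.mpr fun y => Subtype.ext (by
      exact Subgroup.mem_centralizer_singleton_iff.mp y.2))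

/-- The degree is at least two. -/
theorem two_le_degree (P : Sylow p G) (hP : ¬ (P : Subgroup G).Normal)
    (hχ : IsCharacter G χ) (hfaith : ∀ g, χ g = χ 1 → g = 1) (hd : χ 1 = d) (hdp : 2 * d + 1 = p) : 2 ≤ d := by
  by_contra h
  have hd0 : 1 ≤ d := by have := hp.out.two_le; omega
  obtain rfl : d = 1 := by omega
  have h1 : χ 1 = 1 := by simpa using hd
  refine hP (normal_of_le_comm P ⊤ le_top fun a _ b _ => mul_inv_eq_one.mp (hfaith _ ?_))
  rw [linear_map_mul hχ h1, linear_map_mul hχ h1, mul_comm (χ a), ← linear_map_mul hχ h1, ← linear_map_mul hχ h1,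
    mul_inv_cancel, h1]

/-- An element of order `p` is not conjugate to all its powers. -/
theorem not_conj_all_powers (hχ : IsCharacter G χ) (hfaith : ∀ g, χ g = χ 1 → g = 1) (hd : χ 1 = d)
    (hdp : 2 * d + 1 = p) {x : G} (hx : orderOf x = p) :
    ¬ ∀ j : ℕ, 0 < j → j < p → ∃ g : G, g * x * g⁻¹ = x ^ j := by
  classical
  intro hall
  have := Fintype.ofFinite G
  have hd0 : 1 ≤ d := by have := hp.out.two_le; omega
  obtain ⟨m, hm⟩ := classInner_char_nat (isCharacter_res (Subgroup.zpowers x) hχ) isCharacter_one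
  rw [classInner_one_right, Nat.card_zpowers, hx] at hm
  have hS : ∑ h : Subgroup.zpowers x, χ h = ∑ j ∈ Finset.range p, χ (x ^ j) := by
    rw [← Fin.sum_univ_eq_sum_range (fun j => χ (x ^ j))]
    refine (Fintype.sum_equiv ((finCongr hx.symm).trans (finEquivZPowers (isOfFinOrder_of_finite x))) _ _ fun j => ?_).symm
    simp [finEquivZPowers_apply]
  rw [hS] at hm
  have hc : ∀ j ∈ Finset.range p, j ≠ 0 → χ (x ^ j) = χ x := by
    intro j hj h0
    obtain ⟨g, hg⟩ := hall j (Nat.pos_of_ne_zero h0) (Finset.mem_range.mp hj)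
    rw [← hg, char_mul_comm' hχ, ← mul_assoc, inv_mul_cancel, one_mul]
  have hsum : ∑ j ∈ Finset.range p, χ (x ^ j) = d + (2 * d : ℕ) * χ x := by
    rw [← Finset.add_sum_erase _ _ (Finset.mem_range.mpr hp.out.pos), pow_zero, hd,
      Finset.sum_congr rfl (fun j hj => hc j (Finset.mem_of_mem_erase hj) (Finset.ne_of_mem_erase hj)),
      Finset.sum_const, Finset.card_erase_of_mem (Finset.mem_range.mpr hp.out.pos), Finset.card_range,
      nsmul_eq_mul, show p - 1 = 2 * d by omega]
  have hp0 : (p : ℂ) ≠ 0 := Nat.cast_ne_zero.mpr hp.out.ne_zero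
  have heq : (p : ℂ) * m = d + (2 * d : ℕ) * χ x := by rw [← hm, hsum, mul_inv_cancel_left₀ hp0]
  have hmd : m ≤ d := by
    have h1 : ‖(p : ℂ) * m‖ ≤ (p : ℝ) * d := by
      rw [← hm, mul_inv_cancel_left₀ hp0]
      calc ‖∑ j ∈ Finset.range p, χ (x ^ j)‖ ≤ ∑ j ∈ Finset.range p, ‖χ (x ^ j)‖ := norm_sum_le _ _
        _ ≤ ∑ _j ∈ Finset.range p, (d : ℝ) := Finset.sum_le_sum fun j _ => by
            have := norm_char_le hχ (x ^ j)
            rwa [hd, Complex.natCast_re] at this
        _ = (p : ℝ) * d := by simp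
    rw [norm_mul, Complex.norm_natCast, Complex.norm_natCast] at h1
    exact_mod_cast le_of_mul_le_mul_left h1 (by exact_mod_cast hp.out.pos)
  obtain ⟨z, hz⟩ : ∃ z : ℤ, χ x = z := by
    have hcq : χ x = ((((p * m : ℕ) : ℚ) - d) / (2 * d : ℕ) : ℚ) := by
      have h2d : ((2 * d : ℕ) : ℂ) ≠ 0 := Nat.cast_ne_zero.mpr (by omega)
      have h3 : ((((p * m : ℕ) : ℚ) - d) / (2 * d : ℕ) : ℚ) = ((p : ℂ) * m - d) / (2 * d : ℕ) := by
        push_cast; ring
      rw [h3, eq_div_iff h2d]
      linear_combination -heq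
    obtain ⟨z, hz⟩ := exists_int_of_isIntegral_rat (hcq ▸ char_isIntegral hχ x)
    exact ⟨z, by rw [hcq, hz, Rat.cast_intCast]⟩
  have hint : ((p * m : ℕ) : ℤ) = d + (2 * d : ℕ) * z := by
    have : (((p * m : ℕ) : ℤ) : ℂ) = (((d : ℤ) + (2 * d : ℕ) * z : ℤ) : ℂ) := by
      push_cast
      rw [heq, hz]; push_cast; ring
    exact_mod_cast this
  rw [← hdp] at hint
  push_cast at hint
  have hdvd : (d : ℤ) ∣ m := ⟨1 + 2 * z - 2 * m, by linear_combination hint⟩
  obtain ⟨t, ht⟩ := Int.natCast_dvd_natCast.mp hdvd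
  have ht1 : t = 0 ∨ t = 1 := by
    have : d * t ≤ d * 1 := by omega
    have := Nat.le_of_mul_le_mul_left this (by omega)
    omega
  subst ht
  push_cast at hint
  have hcancel : (d : ℤ) * ((2 * d + 1) * t) = d * (1 + 2 * z) := by linear_combination hint
  have hlin := mul_left_cancel₀ (show (d : ℤ) ≠ 0 by exact_mod_cast (show d ≠ 0 by omega)) hcancel
  rcases ht1 with rfl | rfl
  · push_cast at hlin; omega
  · push_cast at hlin
    have hzd : z = d := by linarith
    have hone := hfaith x (by rw [hz, hzd, hd, Int.cast_natCast])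
    rw [hone, orderOf_one] at hx
    exact hp.out.ne_one hx.symm

end CfsgLib.SmallLinear.HalfPrime
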