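import Mathlib

/-!
# Nilpotent endomorphisms: `n` lies in the image of `(ad n)²`
-/

set_option autoImplicit false
set_option linter.unusedTactic false
set_option linter.unreachableTactic false
set_option linter.unusedSimpArgs false

namespace CfsgLib.SmallLinear.HalfPrime

variable {k V : Type*} [Field k] [AddCommGroup V] [Module k V] [FiniteDimensional k V]

/-- The commutator with `n`. -/
def adN (n : Module.End k V) : Module.End k (Module.End k V) :=
  LinearMap.mulLeft k n - LinearMap.mulRight k n

omit [FiniteDimensional k V] in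
theorem adN_apply (n Y : Module.End k V) : adN n Y = n * Y - Y * n := rfl

omit [AddCommGroup V] [Module k V] [FiniteDimensional k V] in
theorem sum_half_gap (L : ℕ) :
    (6 : k) * ∑ i ∈ Finset.range L, (i : k) * ((i : k) - L) = -(((L : k) - 1) * L * (L + 1)) := by
  have key : ∀ (m : ℕ) (M : k), (6 : k) * ∑ i ∈ Finset.range m, (i : k) * ((i : k) - M) =
      (m : k) * ((m : k) - 1) * (2 * m - 1) - 3 * M * m * ((m : k) - 1) := by
    intro m M
    induction m with
    | zero => simp
    | succ m ih => rw [Finset.sum_range_succ, mul_add, ih]; push_cast; ring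
  rw [key]
  ring

/-- A cyclic block of maximal length inside the range of a commuting idempotent. -/
theorem exists_block (n P : Module.End k V) (hP : P * P = P) (hc : n * P = P * n) {d : ℕ}
    (hd : n ^ d = 0) (hne : n * P ≠ 0) (hinv : ∀ j : ℕ, 0 < j → j ≤ d + 1 → (j : k) ≠ 0)
    (h2 : (2 : k) ≠ 0) :
    ∃ π F : Module.End k V, π * π = π ∧ n * π = π * n ∧ P * π = π ∧ π * P = π ∧ π ≠ 0 ∧
      adN n (adN n F) = n * π ∧ (n * F).trace k V ≠ 0 ∧ ∀ m, 2 ≤ m → (n ^ m * F).trace k V = 0 := by
  classical
  have hcp : ∀ i : ℕ, n ^ i * P = P * n ^ i := fun i => (Commute.pow_left hc i)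
  have hex : ∃ L, n ^ L * P = 0 := ⟨d, by rw [hd, zero_mul]⟩
  set L := Nat.find hex with hLdef
  have hL : n ^ L * P = 0 := Nat.find_spec hex
  have hLd : L ≤ d := Nat.find_le (by rw [hd, zero_mul])
  have hP0 : P ≠ 0 := fun h => hne (by rw [h, mul_zero])
  have hL2 : 2 ≤ L := by
    by_contra h
    rcases (show L = 0 ∨ L = 1 by omega) with h' | h'
    · rw [h', pow_zero, one_mul] at hL; exact hP0 hL
    · rw [h', pow_one] at hL; exact hne hL
  have hLm : n ^ (L - 1) * P ≠ 0 := Nat.find_min hex (by omega)
  obtain ⟨y, hy⟩ : ∃ y, (n ^ (L - 1) * P) y ≠ 0 := by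
    by_contra h
    push Not at h
    exact hLm (LinearMap.ext h)
  set v := P y with hv
  have hPv : P v = v := by rw [hv, ← Module.End.mul_apply, hP]
  set e : ℕ → V := fun i => (n ^ i) v with he
  have hne' : ∀ i, n (e i) = e (i + 1) := fun i => by
    simp only [he]; rw [pow_succ', Module.End.mul_apply]
  have hpe : ∀ i j, (n ^ i) (e j) = e (i + j) := fun i j => by
    simp only [he]; rw [pow_add, Module.End.mul_apply]
  have hPe : ∀ i, P (e i) = e i := fun i => by
    simp only [he]; rw [← Module.End.mul_apply, ← hcp, Module.End.mul_apply, hPv]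
  have heL : ∀ i, L ≤ i → e i = 0 := fun i hi => by
    simp only [he]
    rw [show i = (i - L) + L by omega, pow_add, Module.End.mul_apply, ← hPv, ← Module.End.mul_apply (n ^ L), hL]
    simp
  have htop : e (L - 1) ≠ 0 := hy
  have hindep : LinearIndependent k (fun i : Fin L => e i) := by
    rw [Fintype.linearIndependent_iff]
    intro g hg
    by_contra hcon
    push Not at hcon
    set s := Finset.univ.filter fun i : Fin L => g i ≠ 0 with hs
    have hsne : s.Nonempty := by
      obtain ⟨i, hi⟩ := hcon; exact ⟨i, by simp [hs, hi]⟩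
    set i₀ := s.min' hsne with hi₀
    have hg0 : g i₀ ≠ 0 := by
      have := s.min'_mem hsne
      simpa [hs] using this
    have h := congrArg (n ^ (L - 1 - (i₀ : ℕ))) hg
    simp only [map_sum, map_smul, map_zero, hpe] at h
    rw [Finset.sum_eq_single i₀] at h
    · rw [show L - 1 - (i₀ : ℕ) + i₀ = L - 1 by omega] at h
      rcases smul_eq_zero.mp h with h' | h'
      · exact hg0 h'
      · exact htop h'
    · intro i _ hi
      by_cases hgi : g i = 0
      · rw [hgi, zero_smul]
      · have hle : i₀ ≤ i := s.min'_le i (by simp [hs, hgi])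
        have hlt : (i₀ : ℕ) < i := lt_of_le_of_ne hle (fun e => hi (Fin.ext e.symm))
        rw [heL _ (by omega), smul_zero]
    · simp
  -- a functional seeing only the top of the block
  obtain ⟨φ₀, hφ₀⟩ : ∃ φ : V →ₗ[k] k, ∀ i : Fin L, φ (e i) = if (i : ℕ) = L - 1 then 1 else 0 := by
    let b := Module.Basis.extend hindep.linearIndepOn_id
    let f : V →ₗ[k] k := b.constr k fun x => if (x : V) = e (L - 1) then 1 else 0
    refine ⟨f, fun i => ?_⟩
    have hi : e i ∈ hindep.linearIndepOn_id.extend (Set.subset_univ _) :=
      hindep.linearIndepOn_id.subset_extend _ ⟨i, rfl⟩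
    have hbi : b ⟨e i, hi⟩ = e i := Module.Basis.extend_apply_self _ _
    rw [← hbi, Module.Basis.constr_basis]
    refine if_congr ⟨fun h => ?_, fun h => congrArg e h⟩ rfl rfl
    exact congrArg Fin.val (hindep.injective (a₁ := i) (a₂ := ⟨L - 1, by omega⟩) h)
  set φ := φ₀.comp P with hφ
  have hφe : ∀ m, φ (e m) = if m = L - 1 then 1 else 0 := by
    intro m
    rw [hφ, LinearMap.comp_apply, hPe]
    rcases Nat.lt_or_ge m L with h | h
    · exact hφ₀ ⟨m, h⟩
    · rw [heL m h, map_zero, if_neg (by omega)]
  -- coordinates
  set a : ℕ → V →ₗ[k] k := fun i => φ.comp (n ^ (L - 1 - i) : Module.End k V) with ha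
  have hae : ∀ i j, i < L → a i (e j) = if i = j then 1 else 0 := by
    intro i j hi
    rw [ha]
    simp only [LinearMap.comp_apply]
    rw [hpe, hφe]
    refine if_congr ⟨fun h => ?_, fun h => ?_⟩ rfl rfl <;> omega
  set π : Module.End k V := ∑ i ∈ Finset.range L, (a i).smulRight (e i) with hπ
  have hπe : ∀ j, π (e j) = e j := by
    intro j
    simp only [hπ, LinearMap.coe_sum, Finset.sum_apply, LinearMap.smulRight_apply]
    rw [Finset.sum_congr rfl fun i hi => by rw [hae i j (Finset.mem_range.mp hi)]]
    rcases Nat.lt_or_ge j L with h | h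
    · rw [Finset.sum_eq_single j (fun i _ hij => by rw [if_neg hij, zero_smul]) (fun h' => absurd (Finset.mem_range.mpr h) h'), if_pos rfl, one_smul]
    · rw [heL j h]
      refine Finset.sum_eq_zero fun i hi => ?_
      rw [if_neg (by have := Finset.mem_range.mp hi; omega), zero_smul]
  have haP : ∀ i, (a i).comp P = a i := by
    intro i
    rw [ha]
    refine LinearMap.ext fun x => ?_
    simp only [LinearMap.comp_apply, hφ]
    rw [← Module.End.mul_apply (n ^ (L - 1 - i)), hcp, Module.End.mul_apply, ← Module.End.mul_apply P P, hP]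
  have han : ∀ i, i < L → ∀ x, a i (n x) = if i = 0 then 0 else a (i - 1) x := by
    intro i hi x
    rw [ha]
    simp only [LinearMap.comp_apply]
    rw [← Module.End.mul_apply, ← pow_succ]
    rcases Nat.eq_zero_or_pos i with h | h
    · subst h
      rw [if_pos rfl, show L - 1 - 0 + 1 = L by omega, hφ, LinearMap.comp_apply, ← Module.End.mul_apply P,
        ← hcp, hL]
      simp
    · rw [if_neg (by omega), show L - 1 - i + 1 = L - 1 - (i - 1) by omega]
  have hπn : n * π = π * n := by
    refine LinearMap.ext fun x => ?_
    simp only [Module.End.mul_apply, hπ, LinearMap.coe_sum, Finset.sum_apply, LinearMap.smulRight_apply, map_sum,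
      map_smul, hne']
    obtain ⟨L', hL'⟩ : ∃ L', L = L' + 1 := ⟨L - 1, by omega⟩
    rw [hL', Finset.sum_range_succ, Finset.sum_range_succ', heL (L' + 1) (by omega), smul_zero, add_zero,
      han 0 (by omega), if_pos rfl, zero_smul, add_zero]
    refine Finset.sum_congr rfl fun i hi => ?_
    rw [han (i + 1) (by have := Finset.mem_range.mp hi; omega), if_neg (by omega), Nat.add_sub_cancel]
  set c : ℕ → k := fun i => (i : k) * ((i : k) - L) / 2 with hc'
  set F : Module.End k V := ∑ i ∈ Finset.range L, c i • (a i).smulRight (e (i - 1)) with hF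
  have hFe : ∀ j, F (e j) = c j • e (j - 1) := by
    intro j
    simp only [hF, LinearMap.coe_sum, Finset.sum_apply, LinearMap.smul_apply, LinearMap.smulRight_apply]
    rw [Finset.sum_congr rfl fun i hi => by rw [hae i j (Finset.mem_range.mp hi)]]
    rcases Nat.lt_or_ge j L with h | h
    · rw [Finset.sum_eq_single j (fun i _ hij => by rw [if_neg hij, zero_smul, smul_zero]) (fun h' => absurd (Finset.mem_range.mpr h) h'), if_pos rfl, one_smul]
    · rw [Finset.sum_eq_zero fun i hi => by
        rw [if_neg (by have := Finset.mem_range.mp hi; omega), zero_smul, smul_zero]]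
      rcases Nat.lt_or_ge L j with h' | h'
      · rw [heL (j - 1) (by omega), smul_zero]
      · have : j = L := by omega
        subst this
        simp [hc']
  have haπ : ∀ i, i < L → ∀ x, a i (π x) = a i x := by
    intro i hi x
    simp only [hπ, LinearMap.coe_sum, Finset.sum_apply, LinearMap.smulRight_apply, map_sum, map_smul]
    rw [Finset.sum_eq_single i]
    · rw [hae i i hi, if_pos rfl, smul_eq_mul, mul_one]
    · intro j _ hji; rw [hae i j hi, if_neg (Ne.symm hji), smul_zero]
    · intro h; exact absurd (Finset.mem_range.mpr hi) h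
  have hFπ : F * π = F := by
    refine LinearMap.ext fun x => ?_
    simp only [Module.End.mul_apply, hF, LinearMap.coe_sum, Finset.sum_apply, LinearMap.smul_apply,
      LinearMap.smulRight_apply]
    exact Finset.sum_congr rfl fun i hi => by rw [haπ i (Finset.mem_range.mp hi)]
  have hππ : π * π = π := by
    refine LinearMap.ext fun x => ?_
    show π (π x) = π x
    conv_lhs => enter [2]; simp only [hπ, LinearMap.coe_sum, Finset.sum_apply, LinearMap.smulRight_apply]
    simp only [map_sum, map_smul, hπe]
    simp [hπ]
  refine ⟨π, F, hππ, hπn, ?_, ?_, ?_, ?_, ?_, ?_⟩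
  · refine LinearMap.ext fun x => ?_
    simp only [Module.End.mul_apply, hπ, LinearMap.coe_sum, Finset.sum_apply, LinearMap.smulRight_apply, map_sum,
      map_smul, hPe]
  · refine LinearMap.ext fun x => ?_
    simp only [Module.End.mul_apply, hπ, LinearMap.coe_sum, Finset.sum_apply, LinearMap.smulRight_apply]
    exact Finset.sum_congr rfl fun i _ => by rw [← LinearMap.comp_apply, haP]
  · intro h
    have := hπe (L - 1)
    rw [h] at this
    exact htop this.symm
  · -- both sides only see the block
    have hkey : ∀ j, (adN n (adN n F)) (e j) = (n * π) (e j) := by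
      intro j
      simp only [adN_apply, LinearMap.sub_apply, Module.End.mul_apply, map_sub, hFe, map_smul, hne', hπe,
        Nat.add_sub_cancel]
      rcases Nat.eq_zero_or_pos j with h | h
      · subst h
        simp only [hc']
        match_scalars
        all_goals push_cast
        all_goals have h22 : (2 : k) * 2⁻¹ = 1 := mul_inv_cancel₀ h2
        all_goals first
          | linear_combination h22
          | linear_combination -h22
          | ring1
          | linear_combination 2 * h22
          | linear_combination -2 * h22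
      · obtain ⟨i, rfl⟩ : ∃ i, j = i + 1 := ⟨j - 1, by omega⟩
        simp only [Nat.add_sub_cancel, hne', hc']
        rw [← sub_eq_zero]
        simp only [smul_smul, ← sub_smul, sub_sub, ← add_smul]
        match_scalars
        all_goals push_cast
        all_goals have h22 : (2 : k) * 2⁻¹ = 1 := mul_inv_cancel₀ h2
        all_goals first
          | linear_combination h22
          | linear_combination -h22
          | ring1
          | linear_combination 2 * h22
          | linear_combination -2 * h22
    have hfac : adN n (adN n F) * π = adN n (adN n F) := by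
      simp only [adN_apply, sub_mul, mul_sub]
      have h1 : n * π = π * n := hπn
      have : ∀ A : Module.End k V, A * F * n * π = A * F * n := fun A => by
        rw [mul_assoc (A * F) n π, h1, ← mul_assoc, mul_assoc A F π, hFπ]
      simp only [mul_assoc]
      rw [hFπ, h1, ← mul_assoc F π n, hFπ, show n * (π * n) = π * (n * n) by
        rw [← mul_assoc, h1, mul_assoc], ← mul_assoc F π (n * n), hFπ]
    have hfac2 : n * π * π = n * π := by rw [mul_assoc, hππ]
    refine LinearMap.ext fun x => ?_
    rw [← hfac, ← hfac2, Module.End.mul_apply, Module.End.mul_apply]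
    conv_lhs => rw [hπ]
    conv_rhs => enter [2]; rw [hπ]
    simp only [LinearMap.coe_sum, Finset.sum_apply, LinearMap.smulRight_apply, map_sum, map_smul, hkey]
  · have htr : (n * F).trace k V = ∑ i ∈ Finset.range L, c i := by
      rw [hF, Finset.mul_sum, map_sum]
      refine Finset.sum_congr rfl fun i hi => ?_
      rw [mul_smul_comm, map_smul, show n * (a i).smulRight (e (i - 1)) = (a i).smulRight (n (e (i - 1))) from
          LinearMap.ext fun x => by simp, LinearMap.trace_smulRight, hne', hae i _ (Finset.mem_range.mp hi)]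
      rcases Nat.eq_zero_or_pos i with h | h
      · subst h; simp [hc']
      · rw [if_pos (by omega), smul_eq_mul, mul_one]
    rw [htr]
    intro h0
    have h := sum_half_gap (k := k) L
    have h6 : ∑ i ∈ Finset.range L, (i : k) * ((i : k) - L) = 2 * ∑ i ∈ Finset.range L, c i := by
      rw [Finset.mul_sum]
      exact Finset.sum_congr rfl fun i _ => by simp only [hc']; field_simp
    rw [h6, h0, mul_zero, mul_zero, eq_comm, neg_eq_zero] at h
    have h1 : ((L : k) - 1) = ((L - 1 : ℕ) : k) := by rw [Nat.cast_sub (by omega)]; simp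
    have h3 : ((L : k) + 1) = ((L + 1 : ℕ) : k) := by push_cast; rfl
    rw [h1, h3] at h
    rcases mul_eq_zero.mp h with h' | h'
    · rcases mul_eq_zero.mp h' with h'' | h''
      · exact hinv _ (by omega) (by omega) h''
      · exact hinv _ (by omega) (by omega) h''
    · exact hinv _ (by omega) (by omega) h'
  · intro m hm
    rw [hF, Finset.mul_sum, map_sum]
    refine Finset.sum_eq_zero fun i hi => ?_
    rw [mul_smul_comm, map_smul, show n ^ m * (a i).smulRight (e (i - 1)) =
        (a i).smulRight ((n ^ m) (e (i - 1))) from LinearMap.ext fun x => by simp,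
      LinearMap.trace_smulRight, hpe, hae i _ (Finset.mem_range.mp hi), if_neg (by omega), smul_zero]

/-- `n P` lies in the image of `(ad n)²`. -/
theorem exists_double_commutator (n : Module.End k V) {d : ℕ} (hd : n ^ d = 0)
    (hinv : ∀ j : ℕ, 0 < j → j ≤ d + 1 → (j : k) ≠ 0) (h2 : (2 : k) ≠ 0) :
    ∀ (r : ℕ) (P : Module.End k V), Module.finrank k (LinearMap.range P) ≤ r → P * P = P → n * P = P * n →
      ∃ W : Module.End k V, adN n (adN n W) = n * P := by
  intro r
  induction r with
  | zero =>
    intro P hr _ _
    have : LinearMap.range P = ⊥ := Submodule.finrank_eq_zero.mp (Nat.le_zero.mp hr)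
    exact ⟨0, by rw [LinearMap.range_eq_bot.mp this]; simp⟩
  | succ r ih =>
    intro P hr hP hc
    by_cases hne : n * P = 0
    · exact ⟨0, by rw [hne]; simp⟩
    obtain ⟨π, F, hππ, hπn, hPπ, hπP, hπ0, hF, -, -⟩ := exists_block n P hP hc hd hne hinv h2
    have hP' : (P - π) * (P - π) = P - π := by
      rw [sub_mul, mul_sub, mul_sub, hP, hPπ, hπP, hππ, sub_self, sub_zero]
    have hlt : LinearMap.range (P - π) < LinearMap.range P := by
      refine lt_of_le_of_ne ?_ ?_
      · rintro _ ⟨x, rfl⟩
        exact ⟨(P - π) x, by rw [← Module.End.mul_apply, mul_sub, hP, hPπ]⟩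
      · intro heq
        refine hπ0 (LinearMap.ext fun x => ?_)
        have hx : π x ∈ LinearMap.range (P - π) := heq ▸ ⟨π x, by rw [← Module.End.mul_apply, hPπ]⟩
        obtain ⟨z, hz⟩ := hx
        have := congrArg π hz
        rw [← Module.End.mul_apply, mul_sub, hπP, hππ, sub_self, ← Module.End.mul_apply π π, hππ] at this
        simpa using this.symm
    have hfr := Submodule.finrank_lt_finrank_of_lt hlt
    obtain ⟨W, hW⟩ := ih (P - π) (by omega) hP' (by rw [mul_sub, sub_mul, hc, hπn])
    exact ⟨F + W, by rw [map_add, map_add, hF, hW, ← mul_add]; congr 1; abel⟩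

end CfsgLib.SmallLinear.HalfPrime
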