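import Cfsg.Agent.Lib.Classical.Dickson.PGLClassify
import Cfsg.Agent.S0732
import Cfsg.Agent.S0495

/-!
# Recognition of `PSL(2, p)` inside `PGL(2, K)`

A finite subgroup of `PGL(2, K)` in characteristic `p` with a self-centralizing non-normal Sylow
subgroup of order `p`, no normal `p'`-subgroup, and no element of order `p` conjugate to all its
powers is `PSL(2, p)`.
-/

set_option autoImplicit false
set_option maxHeartbeats 800000

noncomputable section

namespace CfsgLib.SmallLinear.HalfPrime

open Matrix Projectivization CfsgLib.Transfer CfsgLib.Classical.Dickson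
open scoped MatrixGroups LinearAlgebra.Projectivization

/-- A Sylow subgroup has order `p` when `p` divides the group order exactly once. -/
theorem card_sylow_prime {G : Type*} [Group G] [Finite G] {p : ℕ} [hp : Fact p.Prime]
    (hdvd : p ∣ Nat.card G) (hsq : ¬ p ^ 2 ∣ Nat.card G) (P : Sylow p G) : Nat.card P = p := by
  rw [P.card_eq_multiplicity]
  have h1 : (Nat.card G).factorization p ≤ 1 := by
    by_contra h
    exact hsq ((hp.out.pow_dvd_iff_le_factorization Nat.card_pos.ne').mpr (by omega))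
  have h2 := (hp.out.pow_dvd_iff_le_factorization (k := 1) Nat.card_pos.ne').mp (by rwa [pow_one])
  rw [show (Nat.card G).factorization p = 1 by omega, pow_one]

variable {K : Type*} [Field K] (p : ℕ) [hp : Fact p.Prime] [CharP K p]
  (G : Subgroup (Matrix.ProjGenLinGroup (Fin 2) K))

/-- Commuting with an element of order `p` forces order `p`. -/
theorem pow_eq_one_of_commute [IsAlgClosed K] {u g : G} (hu : orderOf u = p) (hgu : g * u = u * g) :
    g ^ p = 1 := by
  obtain ⟨x, hx⟩ := exists_fixed (u : Matrix.ProjGenLinGroup (Fin 2) K)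
  obtain ⟨h, hh⟩ := exists_to_inf x
  obtain ⟨a, b, hab⟩ := exists_aff_of_fix_inf (g := h * (u : Matrix.ProjGenLinGroup (Fin 2) K) * h⁻¹)
    (by rw [mul_smul, mul_smul, inv_smul_eq_iff.2 hh.symm, hx, hh])
  have hup : (h * (u : Matrix.ProjGenLinGroup (Fin 2) K) * h⁻¹) ^ p = 1 := by
    rw [conj_pow, ← SubmonoidClass.coe_pow, ← hu, pow_orderOf_eq_one]
    simp
  have ha : a = 1 := by
    rw [hab] at hup
    obtain ⟨c, hc⟩ := aff_pow_fst a b p
    rw [hc, aff_eq_one] at hup
    simpa using unit_eq_one_of_pow (p := p) (m := 1) (by rw [mul_one]; exact hup.1)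
  subst ha
  have hb : b ≠ 0 := by
    rintro rfl
    rw [aff_one, conj_eq_one_iff] at hab
    have : u = 1 := Subtype.ext hab
    rw [this, orderOf_one] at hu
    exact hp.out.ne_one hu.symm
  set g' := h * (g : Matrix.ProjGenLinGroup (Fin 2) K) * h⁻¹ with hg'
  have hcomm : g' * aff 1 b = aff 1 b * g' := by
    have h1 := congrArg (fun z : G => h * (z : Matrix.ProjGenLinGroup (Fin 2) K) * h⁻¹) hgu
    simp only [Subgroup.coe_mul] at h1
    rw [hg', ← hab]
    calc _ = h * ((g : Matrix.ProjGenLinGroup (Fin 2) K) * u) * h⁻¹ := by group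
      _ = _ := h1
      _ = _ := by group
  have hfix : g' • (lineInf : ℙ K (Fin 2 → K)) = lineInf := by
    have h1 : g' • (lineInf : ℙ K (Fin 2 → K)) ∈ fixSet (aff 1 b) := by
      rw [mem_fixSet, ← mul_smul, ← hcomm, mul_smul, aff_smul_inf]
    rwa [fixSet_aff_one hb, Set.mem_singleton_iff] at h1
  obtain ⟨c, e, hce⟩ := exists_aff_of_fix_inf hfix
  rw [hce, aff_mul, aff_mul] at hcomm
  have hc : (c : K) = 1 := by
    have h1 := (aff_inj hcomm).2
    simp only [Units.val_one, one_mul] at h1
    exact mul_right_cancel₀ hb (by linear_combination h1)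
  obtain rfl : c = 1 := Units.ext hc
  have h2 : g' ^ p = 1 := by
    rw [hce, aff_one_pow, CharP.cast_eq_zero, zero_mul, aff_one]
  rw [hg', conj_pow, conj_eq_one_iff] at h2
  exact Subtype.ext (by simpa using h2)

variable [Finite G]

/-- The exceptional group of order `168` is simple. -/
theorem isSimple_of_card (hp7 : p = 7) (hG : Nat.card G = 168) (hn : Nat.card (Sylow p G) = 8)
    (hcop : ∀ N : Subgroup G, N.Normal → ¬ p ∣ Nat.card N → N = ⊥) : IsSimpleGroup G := by
  have : Nontrivial G := Finite.one_lt_card_iff_nontrivial.mp (by omega)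
  have hsq : ¬ p ^ 2 ∣ Nat.card G := by rw [hp7, hG]; norm_num
  refine ⟨fun N hN => ?_⟩
  by_cases hpN : p ∣ Nat.card N
  swap
  · exact Or.inl (hcop N hN hpN)
  refine Or.inr (by_contra fun htop => ?_)
  have hall : ∀ Q : Sylow p G, (Q : Subgroup G) ≤ N := by
    obtain ⟨R⟩ := (inferInstance : Nonempty (Sylow p N))
    obtain ⟨S, hS⟩ := (R.isPGroup'.map N.subtype).exists_le_sylow
    have hS' : (R : Subgroup N).map N.subtype = (S : Subgroup G) := by
      refine Subgroup.eq_of_le_of_card_ge hS ?_
      rw [card_sylow_prime (by rw [hp7, hG]; norm_num) hsq S, Subgroup.card_map_of_injective N.subtype_injective,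
        card_sylow_prime hpN (fun h => hsq (h.trans N.card_subgroup_dvd_card)) R]
    have hSN : (S : Subgroup G) ≤ N := hS' ▸ Subgroup.map_subtype_le _
    intro Q
    obtain ⟨g, rfl⟩ := MulAction.exists_smul_eq G S Q
    rintro y hy
    rw [Sylow.coe_subgroup_smul] at hy
    obtain ⟨z, hz, rfl⟩ := hy
    exact hN.conj_mem z (hSN hz) g
  have hbij : Function.Bijective fun Q : Sylow p G => Q.subtype (hall Q) := by
    refine ⟨fun Q R h => ?_, fun R => ?_⟩
    · have h1 := congrArg (fun T : Sylow p N => (T : Subgroup N).map N.subtype) h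
      simp only [Sylow.coe_subtype, Subgroup.map_subgroupOf_eq_of_le (hall _)] at h1
      exact Sylow.ext h1
    · obtain ⟨S, hS⟩ := (R.isPGroup'.map N.subtype).exists_le_sylow
      exact ⟨S, Sylow.ext (R.is_maximal' (S.subtype (hall S)).isPGroup' fun z hz => by
        rw [Sylow.coe_subtype, Subgroup.mem_subgroupOf]; exact hS ⟨z, hz, rfl⟩)⟩
  have hnN : Nat.card (Sylow p N) = 8 := (Nat.card_eq_of_bijective _ hbij).symm.trans hn
  obtain ⟨R⟩ := (inferInstance : Nonempty (Sylow p N))
  have hcR : Nat.card R = p := card_sylow_prime hpN (fun h => hsq (h.trans N.card_subgroup_dvd_card)) R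
  have hidx : (Subgroup.normalizer ((R : Subgroup N) : Set N)).index = 8 :=
    R.card_eq_index_normalizer.symm.trans hnN
  have h56 : 56 ∣ Nat.card N := by
    have h1 : 8 ∣ Nat.card N := hidx ▸ Subgroup.index_dvd_card _
    have h2 : 7 ∣ Nat.card N := hp7 ▸ hpN
    omega
  have hcN : Nat.card N = 56 := by
    obtain ⟨c, hc⟩ := h56
    have h3 : 56 * c ∣ 168 := hc ▸ hG ▸ N.card_subgroup_dvd_card
    have h4 : c ∣ 3 := Nat.dvd_of_mul_dvd_mul_left (by norm_num : 0 < 56) h3
    rcases (Nat.dvd_prime Nat.prime_three).mp h4 with rfl | rfl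
    · exact hc
    · exact absurd (Subgroup.eq_top_of_card_eq N (by rw [hc, hG])) htop
  have hnorm : Subgroup.normalizer ((R : Subgroup N) : Set N) = (R : Subgroup N) := by
    refine (Subgroup.eq_of_le_of_card_ge Subgroup.le_normalizer ?_).symm
    have h1 := (Subgroup.normalizer ((R : Subgroup N) : Set N)).card_mul_index
    rw [hidx, hcN] at h1
    have h7 : Nat.card (R : Subgroup N) = 7 := hcR.trans hp7
    omega
  have hcomm : IsMulCommutative (R : Subgroup N) := by
    have : IsCyclic (R : Subgroup N) := isCyclic_of_prime_card (p := p) hcR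
    exact ⟨⟨IsCyclic.commGroup.mul_comm⟩⟩
  have hPC : Subgroup.normalizer ((R : Subgroup N) : Set N) ≤ Subgroup.centralizer ((R : Subgroup N) : Set N) := by
    rw [hnorm]
    exact Subgroup.le_centralizer _
  have hcompl := MonoidHom.ker_transferSylow_isComplement' R hPC
  set C := (MonoidHom.transferSylow R hPC).ker with hC
  have hcC : Nat.card C = 8 := by
    have h1 := hcompl.card_mul
    rw [hcR, hcN, hp7] at h1
    omega
  haveI : Fact (Nat.Prime 2) := ⟨Nat.prime_two⟩
  have hfac : (Nat.card N).factorization 2 = 3 := by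
    rw [hcN, show (56 : ℕ) = 2 ^ 3 * 7 by norm_num, Nat.factorization_mul (by norm_num) (by norm_num),
      Finsupp.add_apply, Nat.Prime.factorization_pow Nat.prime_two, Finsupp.single_eq_same,
      Nat.factorization_eq_zero_of_not_dvd (show ¬ 2 ∣ 7 by norm_num)]
  let T : Sylow 2 N := Sylow.ofCard C (by rw [hcC, hfac]; norm_num)
  have hT : (T : Subgroup N) = C := rfl
  have hchar : (T : Subgroup N).Characteristic := T.characteristic_of_normal (by rw [hT, hC]; infer_instance)
  have hnG : ((T : Subgroup N).map N.subtype).Normal := inferInstance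
  have hbot := hcop _ hnG (by
    rw [Subgroup.card_map_of_injective N.subtype_injective, hT, hcC, hp7]; norm_num)
  have h8 := congrArg (fun H : Subgroup G => Nat.card H) hbot
  simp only [Subgroup.card_map_of_injective N.subtype_injective, hT, hcC, Subgroup.card_bot] at h8
  norm_num at h8

/-- Recognition of `PSL(2, p)`. -/
theorem recognise [IsAlgClosed K] (h5 : 5 ≤ p) (hdvd : p ∣ Nat.card G) (hsq : ¬ p ^ 2 ∣ Nat.card G)
    (hnn : ∀ P : Sylow p G, ¬ (P : Subgroup G).Normal)
    (hcop : ∀ N : Subgroup G, N.Normal → ¬ p ∣ Nat.card N → N = ⊥)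
    (hpow : ∀ x : G, orderOf x = p → ¬ ∀ j : ℕ, 0 < j → j < p → ∃ g : G, g * x * g⁻¹ = x ^ j) :
    Nonempty (G ≃* Matrix.ProjectiveSpecialLinearGroup (Fin 2) (ZMod p)) := by
  classical
  have hcP := fun P : Sylow p G => card_sylow_prime hdvd hsq P
  have hn1 : Nat.card (Sylow p G) ≠ 1 := fun h => by
    have := (Nat.card_eq_one_iff_unique.mp h).1
    obtain ⟨P⟩ := (inferInstance : Nonempty (Sylow p G))
    exact hnn P P.normal_of_subsingleton
  have key : ∀ k : ℕ, Nat.card (Sylow p G) = p + 1 → Nat.card G = (p + 1) * p * k → 2 * k = p - 1 →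
      Nonempty (G ≃* Matrix.ProjectiveSpecialLinearGroup (Fin 2) (ZMod p)) := by
    intro k hn hG hk
    letI : Fintype (Sylow p G) := Fintype.ofFinite _
    let act := MulAction.toPermHom G (Sylow p G)
    have hker : act.ker = ⊥ := by
      refine hcop _ inferInstance fun h => hn1 ?_
      obtain ⟨y, hy⟩ := exists_prime_orderOf_dvd_card' (G := act.ker) p h
      have hy' : orderOf (y : G) = p := by rwa [Subgroup.orderOf_coe]
      have hpg : IsPGroup p (Subgroup.zpowers (y : G)) := IsPGroup.of_card (n := 1) (by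
        rw [Nat.card_zpowers, hy', pow_one])
      have hQ : ∀ Q : Sylow p G, (Q : Subgroup G) = Subgroup.zpowers (y : G) := by
        intro Q
        have hfix : (y : G) • Q = Q := congrFun (congrArg DFunLike.coe y.2) Q
        have hyN := Sylow.smul_eq_iff_mem_normalizer.mp hfix
        have h1 : Subgroup.zpowers (y : G) ≤ (Q : Subgroup G) := by
          intro z hz
          have h2 : z ∈ Subgroup.zpowers (y : G) ⊓ Subgroup.normalizer ((Q : Subgroup G) : Set G) :=
            ⟨hz, Subgroup.zpowers_le.mpr hyN hz⟩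
          exact ((SetLike.ext_iff.mp (hpg.inf_normalizer_sylow Q) z).mp h2).2
        exact (Subgroup.eq_of_le_of_card_ge h1 (by rw [hcP Q, Nat.card_zpowers, hy'])).symm
      exact Nat.card_eq_one_iff_unique.mpr ⟨⟨fun Q R => Sylow.ext ((hQ Q).trans (hQ R).symm)⟩, inferInstance⟩
    have hinj : Function.Injective act := (MonoidHom.ker_eq_bot_iff act).mp hker
    let e : G ≃* act.range := MonoidHom.ofInjective hinj
    haveI : MulAction.IsPretransitive act.range (Sylow p G) := ⟨fun a b => by
      obtain ⟨g, hg⟩ := MulAction.exists_smul_eq G a b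
      exact ⟨⟨act g, g, rfl⟩, hg⟩⟩
    have hcard : Nat.card act.range = (p + 1) * p * k := by rw [← Nat.card_congr e.toEquiv, hG]
    rcases Cfsg.Agent.S0732.result hp.out (by rw [← Nat.card_eq_fintype_card, hn]) act.range hcard (by omega) with
      ⟨h, -⟩ | ⟨-, ⟨f⟩⟩ | ⟨q, hq, hpq, hkq, -⟩
    · omega
    · exact ⟨e.trans f⟩
    · have hq3 : q = 3 ∧ k = 3 := by
        rcases hkq with hkq | hkq
        · omega
        subst hkq
        have hlt : ∀ n, 2 * (n + 4) + 2 < 2 ^ (n + 4) := fun n => by
          induction n with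
          | zero => norm_num
          | succ n ih => rw [show n + 1 + 4 = n + 4 + 1 by omega, pow_succ]; omega
        rcases Nat.lt_or_ge k 4 with hlt4 | hge
        · interval_cases k <;> norm_num at hpq hk ⊢ <;> omega
        · obtain ⟨n, rfl⟩ : ∃ n, k = n + 4 := ⟨k - 4, by omega⟩
          have := hlt n
          omega
      obtain ⟨rfl, rfl⟩ := hq3
      have hp7 : p = 7 := by norm_num at hpq; omega
      subst hp7
      have hs := isSimple_of_card 7 G rfl (by rw [hG]) (by rw [hn]) hcop
      exact Cfsg.Agent.S0495.result (by rw [hG]) (ZMod.card 7)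
  rcases classify p G with ⟨-, h⟩ | ⟨n, hn0, hn, ⟨e⟩⟩ | ⟨x, hx, u, hu1, hu⟩ | ⟨⟨e⟩⟩ | ⟨⟨e⟩⟩ | ⟨⟨e⟩⟩ |
    ⟨Q, k, -, hQ, hn, hG, hk⟩
  · exact absurd ((hp.out.coprime_iff_not_dvd).mp h.symm) (not_not.mpr hdvd)
  · rw [Nat.card_congr e.toEquiv, DihedralGroup.nat_card] at hdvd
    rcases hp.out.dvd_mul.mp hdvd with h | h
    · have := Nat.le_of_dvd two_pos h; omega
    · exact absurd h (hp.out.coprime_iff_not_dvd.mp hn.symm)
  · obtain ⟨U, -, -, hU, hUp, -, -, -, -, -, hnorm⟩ := exists_stab_data p G x
    obtain ⟨P, hP⟩ := hUp.exists_le_sylow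
    have huU : u ∈ U := (hU u).mpr (Or.inr hu)
    have hUn : U.Normal := Subgroup.normalizer_eq_top_iff.mp (top_le_iff.mp fun g _ =>
      hnorm ((mem_stab_iff G).mpr (hx g)))
    have hUne : U ≠ ⊥ := fun h => hu1 (by rw [h] at huU; simpa using huU)
    have hUP : U = (P : Subgroup G) := by
      refine Subgroup.eq_of_le_of_card_ge hP ?_
      rw [hcP]
      obtain ⟨i, hi⟩ := IsPGroup.iff_card.mp hUp
      rcases i with _ | i
      · exact absurd (Subgroup.card_eq_one.mp (by simpa using hi)) hUne
      · rw [hi, pow_succ]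
        exact Nat.le_mul_of_pos_left _ (pow_pos hp.out.pos _)
    exact absurd (hUP ▸ hUn) (hnn P)
  · have hc : Nat.card G = 12 := by
      rw [Nat.card_congr e.toEquiv, nat_card_alternatingGroup, Nat.card_fin]
      decide
    exact absurd (Nat.le_of_dvd (by norm_num) (show p ∣ 4 from (Nat.Coprime.dvd_of_dvd_mul_left
      ((Nat.coprime_primes hp.out Nat.prime_three).mpr (by omega)) (by rw [hc] at hdvd; exact hdvd)))) (by omega)
  · have hc : Nat.card G = 24 := by rw [Nat.card_congr e.toEquiv, Nat.card_perm, Nat.card_fin]; decide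
    have h8 : p ∣ 8 := Nat.Coprime.dvd_of_dvd_mul_left
      ((Nat.coprime_primes hp.out Nat.prime_three).mpr (by omega)) (by rw [hc] at hdvd; exact hdvd)
    have h2 := hp.out.dvd_of_dvd_pow (show p ∣ 2 ^ 3 from h8)
    have := Nat.le_of_dvd two_pos h2
    omega
  · have hc : Nat.card G = 60 := by
      rw [Nat.card_congr e.toEquiv, nat_card_alternatingGroup, Nat.card_fin]
      decide
    have hp5 : p = 5 := by
      have h20 : p ∣ 20 := Nat.Coprime.dvd_of_dvd_mul_left
        ((Nat.coprime_primes hp.out Nat.prime_three).mpr (by omega)) (by rw [hc] at hdvd; exact hdvd)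
      rcases hp.out.dvd_mul.mp (show p ∣ 4 * 5 from h20) with h | h
      · have := Nat.le_of_dvd (by norm_num) h; omega
      · exact (Nat.prime_dvd_prime_iff_eq hp.out (by norm_num)).mp h
    subst hp5
    refine key 2 ?_ (by rw [hc]) rfl
    obtain ⟨P⟩ := (inferInstance : Nonempty (Sylow 5 G))
    have h1 : Nat.card (Sylow 5 G) % 5 = 1 := card_sylow_modEq_one 5 G
    have h2 : Nat.card (Sylow 5 G) ∣ 12 := by
      have h3 : (P : Subgroup G).index = 12 := by
        have := (P : Subgroup G).card_mul_index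
        rw [hcP P, hc] at this
        omega
      exact h3 ▸ P.card_dvd_index
    have := Nat.le_of_dvd (by norm_num) h2
    interval_cases hh : Nat.card (Sylow 5 G) <;> first | rfl | omega
  · obtain ⟨P⟩ := (inferInstance : Nonempty (Sylow p G))
    obtain rfl : p = Q := (hcP P).symm.trans (hQ P)
    rcases hk with rfl | hk
    swap
    · exact key k hn (by rw [hG]; ring) hk
    obtain ⟨x, hx⟩ := exists_prime_orderOf_dvd_card' (G := (P : Subgroup G)) p (by rw [hcP])
    have hx' : orderOf (x : G) = p := by rwa [Subgroup.orderOf_coe]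
    have hzP : Subgroup.zpowers (x : G) = (P : Subgroup G) := by
      refine Subgroup.eq_of_le_of_card_ge (Subgroup.zpowers_le.mpr x.2) ?_
      rw [Nat.card_zpowers, hx', hcP]
    refine absurd ?_ (hpow x hx')
    set N := Subgroup.normalizer ((P : Subgroup G) : Set G) with hN
    have hmem : ∀ g : N, ∃ j : Fin p, (j : ℕ) ≠ 0 ∧ (g : G) * x * (g : G)⁻¹ = (x : G) ^ (j : ℕ) := by
      intro g
      have h1 : (g : G) * x * (g : G)⁻¹ ∈ Subgroup.zpowers (x : G) := by
        rw [hzP]; exact (Subgroup.mem_normalizer_iff.mp g.2 x).mp x.2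
      obtain ⟨j, hj⟩ := (isOfFinOrder_of_finite (x : G)).mem_powers_iff_mem_zpowers.mpr h1
      refine ⟨⟨j % p, Nat.mod_lt _ hp.out.pos⟩, fun h => ?_, ?_⟩
      · have h2 : (x : G) ^ (j % p) = (g : G) * x * (g : G)⁻¹ := by
          have h3 := pow_mod_orderOf (x : G) j
          rw [hx'] at h3
          rw [h3]; exact hj
        rw [show j % p = 0 from h, pow_zero, eq_comm, conj_eq_one_iff] at h2
        rw [h2, orderOf_one] at hx'
        exact hp.out.ne_one hx'.symm
      · have h3 := pow_mod_orderOf (x : G) j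
        rw [hx'] at h3
        exact (h3.trans hj).symm
    choose m hm0 hm using hmem
    have hcoset : ∀ g h : N, m g = m h → (g : N ⧸ (P : Subgroup G).subgroupOf N) = h := by
      intro g h he
      rw [QuotientGroup.eq, Subgroup.mem_subgroupOf]
      have hc : ((g : G)⁻¹ * h) * x = x * ((g : G)⁻¹ * h) := by
        have e1 : (g : G) * x * (g : G)⁻¹ = (h : G) * x * (h : G)⁻¹ := by rw [hm, hm, he]
        calc ((g : G)⁻¹ * h) * x = (g : G)⁻¹ * ((h : G) * x * (h : G)⁻¹) * h := by group
          _ = (g : G)⁻¹ * ((g : G) * x * (g : G)⁻¹) * h := by rw [e1]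
          _ = _ := by group
      have hp1 := pow_eq_one_of_commute p G hx' hc
      have hpg : IsPGroup p (Subgroup.zpowers ((g : G)⁻¹ * h)) := by
        refine IsPGroup.iff_card.mpr ?_
        rw [Nat.card_zpowers]
        rcases (Nat.dvd_prime hp.out).mp (orderOf_dvd_of_pow_eq_one hp1) with e2 | e2
        · exact ⟨0, by rw [e2, pow_zero]⟩
        · exact ⟨1, by rw [e2, pow_one]⟩
      have h2 : (g : G)⁻¹ * h ∈ Subgroup.zpowers ((g : G)⁻¹ * h) ⊓ N :=
        ⟨Subgroup.mem_zpowers _, N.mul_mem (N.inv_mem g.2) h.2⟩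
      exact ((SetLike.ext_iff.mp (hpg.inf_normalizer_sylow P) _).mp h2).2
    let F : N ⧸ (P : Subgroup G).subgroupOf N → {j : Fin p // (j : ℕ) ≠ 0} := fun q => ⟨m q.out, hm0 _⟩
    have hFinj : Function.Injective F := fun q r h => by
      have := hcoset _ _ (Subtype.ext_iff.mp h)
      rwa [QuotientGroup.out_eq', QuotientGroup.out_eq'] at this
    have hcN : Nat.card N = p * (p - 1) := by
      have h1 := N.card_mul_index
      have hi : N.index = p + 1 := P.card_eq_index_normalizer.symm.trans hn
      rw [hi, hG] at h1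
      exact Nat.eq_of_mul_eq_mul_right (Nat.succ_pos p) (by rw [Nat.succ_eq_add_one, h1]; ring)
    have hcq : Nat.card (N ⧸ (P : Subgroup G).subgroupOf N) = p - 1 := by
      have h1 := Subgroup.card_eq_card_quotient_mul_card_subgroup ((P : Subgroup G).subgroupOf N)
      rw [Nat.card_congr (Subgroup.subgroupOfEquivOfLe (hN ▸ Subgroup.le_normalizer)).toEquiv, hcN, hcP] at h1
      exact Nat.eq_of_mul_eq_mul_right hp.out.pos (by rw [← h1]; ring)
    have hct : Nat.card {j : Fin p // (j : ℕ) ≠ 0} = p - 1 := by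
      rw [Nat.card_eq_fintype_card, Fintype.card_subtype_compl,
        show Fintype.card {j : Fin p // (j : ℕ) = 0} = 1 from Fintype.card_eq_one_iff.mpr
          ⟨⟨⟨0, hp.out.pos⟩, rfl⟩, fun ⟨j, hj⟩ => Subtype.ext (Fin.ext hj)⟩, Fintype.card_fin]
    have hFs := ((Nat.bijective_iff_injective_and_card F).mpr ⟨hFinj, hcq.trans hct.symm⟩).2
    intro j hj0 hjp
    obtain ⟨q, hq⟩ := hFs ⟨⟨j, hjp⟩, hj0.ne'⟩
    refine ⟨q.out, ?_⟩
    rw [hm, show m q.out = ⟨j, hjp⟩ from Subtype.ext_iff.mp hq]

end CfsgLib.SmallLinear.HalfPrime
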