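import Cfsg.Agent.Lib.SmallLinear.HalfPrime.Nilp
import Mathlib

/-!
# A three-dimensional module inside `End V`

`G` has a cyclic Sylow `p`-subgroup `⟨x⟩` of order `p` and acts on `V` with `(x - 1) ^ d = 0`,
`2 d < p`. The relative trace of the projection onto the middle of `End V` cuts out a
three-dimensional `G`-submodule with an invariant symmetric form.
-/

set_option autoImplicit false
set_option maxHeartbeats 1600000

noncomputable section

namespace CfsgLib.SmallLinear.HalfPrime

open Polynomial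

section Sums

variable {G : Type*} [Group G] {M : Type*} [AddCommMonoid M]

/-- Sums over left cosets of a right invariant function. -/
theorem sum_coset_left {H : Subgroup G} [Fintype (G ⧸ H)] (φ : G → M) (hφ : ∀ g : G, ∀ h ∈ H, φ (g * h) = φ g)
    (g₀ : G) : ∑ q : G ⧸ H, φ (g₀ * q.out) = ∑ q : G ⧸ H, φ q.out := by
  refine Fintype.sum_equiv (MulAction.toPerm g₀) _ _ fun q => ?_
  show φ (g₀ * q.out) = φ (g₀ • q).out
  obtain ⟨h, hh⟩ : ∃ h : H, (g₀ • q).out = g₀ * q.out * h := by
    conv in (g₀ • q) => rw [← QuotientGroup.out_eq' q, MulAction.Quotient.smul_mk]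
    exact QuotientGroup.mk_out_eq_mul H (g₀ * q.out)
  rw [hh, hφ _ _ h.2]

/-- When `⟨x⟩` moves every other coset freely, only the base coset survives. -/
theorem sum_coset_base {p : ℕ} [hp : Fact p.Prime] {x : G} (hx : orderOf x = p) {N : Subgroup G}
    [Fintype (G ⧸ N)] (hxN : x ∈ N) (hfree : ∀ g, g ∉ N → g⁻¹ * x * g ∉ N)
    (φ : G → M) (hφ : ∀ g : G, ∀ h ∈ N, φ (g * h) = φ g)
    (hzero : ∀ g, g ∉ N → ∑ j ∈ Finset.range p, φ (x ^ j * g) = 0) :
    ∑ q : G ⧸ N, φ q.out = φ 1 := by
  classical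
  have hval : ∀ g : G, φ (Quotient.out (g : G ⧸ N)) = φ g := fun g => by
    obtain ⟨h, hh⟩ := QuotientGroup.mk_out_eq_mul N g
    rw [hh, hφ _ _ h.2]
  have hrest : ∀ s : Finset (G ⧸ N), (∀ q ∈ s, q ≠ ((1 : G) : G ⧸ N)) → (∀ q ∈ s, x • q ∈ s) →
      ∑ q ∈ s, φ q.out = 0 := by
    intro s
    induction s using Finset.strongInduction with
    | H s ih =>
      intro hs hinv
      rcases s.eq_empty_or_nonempty with rfl | ⟨q, hq⟩
      · simp
      obtain ⟨g, rfl⟩ := QuotientGroup.mk_surjective q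
      have hgN : g ∉ N := fun h' => hs _ hq ((QuotientGroup.eq).mpr (by simpa using N.inv_mem h'))
      have hpow : ∀ j : ℕ, x ^ j • (g : G ⧸ N) ∈ s := by
        intro j
        induction j with
        | zero => simpa using hq
        | succ j ihj => rw [pow_succ', mul_smul]; exact hinv _ ihj
      have hinj : Set.InjOn (fun j : ℕ => x ^ j • (g : G ⧸ N)) (Finset.range p) := by
        intro i hi j hj h
        simp only [Finset.coe_range, Set.mem_Iio] at hi hj
        by_contra hne
        wlog hij : i < j generalizing i j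
        · exact this h.symm hj hi (Ne.symm hne) (by omega)
        have h1 : g⁻¹ * x ^ (j - i) * g ∈ N := by
          have h2 : x ^ i • (g : G ⧸ N) = x ^ j • (g : G ⧸ N) := h
          rw [MulAction.Quotient.smul_mk, MulAction.Quotient.smul_mk, QuotientGroup.eq] at h2
          have h3 : (x ^ i * g)⁻¹ * (x ^ j * g) = g⁻¹ * x ^ (j - i) * g := by
            rw [show x ^ j = x ^ i * x ^ (j - i) by rw [← pow_add]; congr 1; omega]
            group
          exact h3 ▸ h2
        refine hfree g hgN ?_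
        have hcop : Nat.Coprime (j - i) (orderOf x) := by
          rw [hx]
          exact (Nat.coprime_of_lt_prime (by omega) (by omega) hp.out).symm
        obtain ⟨m, hm⟩ := exists_pow_eq_self_of_coprime hcop
        have h4 := N.pow_mem h1 m
        have h5 : g⁻¹ * x ^ (j - i) * g = g⁻¹ * x ^ (j - i) * g⁻¹⁻¹ := by rw [inv_inv]
        rw [h5, conj_pow, hm, inv_inv] at h4
        exact h4
      set O := (Finset.range p).image fun j : ℕ => x ^ j • (g : G ⧸ N) with hO
      have hOs : O ⊆ s := by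
        intro r hr
        obtain ⟨j, -, rfl⟩ := Finset.mem_image.mp hr
        exact hpow j
      have hclosed : ∀ r ∈ s \ O, x • r ∈ s \ O := by
        intro r hr
        obtain ⟨hrs, hrO⟩ := Finset.mem_sdiff.mp hr
        refine Finset.mem_sdiff.mpr ⟨hinv r hrs, fun h => hrO ?_⟩
        obtain ⟨j, -, hjr⟩ := Finset.mem_image.mp h
        refine Finset.mem_image.mpr ⟨(j + (p - 1)) % p, Finset.mem_range.mpr (Nat.mod_lt _ hp.out.pos), ?_⟩
        have h6 : x ^ ((j + (p - 1)) % p) = x⁻¹ * x ^ j := by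
          have h7 : x ^ ((j + (p - 1)) % p) = x ^ (j + (p - 1)) := by rw [← hx, pow_mod_orderOf]
          rw [h7, eq_inv_mul_iff_mul_eq, ← pow_succ', show j + (p - 1) + 1 = j + p by
            have := hp.out.pos; omega, pow_add, ← hx, pow_orderOf_eq_one, mul_one]
        rw [h6, mul_smul, hjr, inv_smul_smul]
      have hlt : s \ O ⊂ s := Finset.sdiff_ssubset hOs ⟨(g : G ⧸ N), Finset.mem_image.mpr
        ⟨0, Finset.mem_range.mpr hp.out.pos, by simp⟩⟩
      rw [← Finset.sum_sdiff hOs, ih _ hlt (fun r hr => hs r (Finset.mem_sdiff.mp hr).1) hclosed, zero_add,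
        hO, Finset.sum_image hinj]
      rw [← hzero g hgN]
      refine Finset.sum_congr rfl fun j _ => ?_
      rw [MulAction.Quotient.smul_mk, hval]
      rfl
  rw [← Finset.add_sum_erase _ _ (Finset.mem_univ ((1 : G) : G ⧸ N)), hval,
    hrest _ (fun q hq => (Finset.mem_erase.mp hq).1) (fun q hq => Finset.mem_erase.mpr
      ⟨fun h => (Finset.mem_erase.mp hq).1 ?_, Finset.mem_univ _⟩), add_zero]
  rw [← inv_smul_smul x q, h, MulAction.Quotient.smul_mk, QuotientGroup.eq]
  simpa using hxN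

end Sums

/-- In characteristic `p`, `∑_{j<p} (1 + D) ^ j = D ^ (p - 1)`. -/
theorem sum_pow_one_add {k : Type*} [Field k] (p : ℕ) [hp : Fact p.Prime] [CharP k p] {A : Type*} [Ring A]
    [Algebra k A] (D : A) : ∑ j ∈ Finset.range p, (1 + D) ^ j = D ^ (p - 1) := by
  have h : ∑ j ∈ Finset.range p, (1 + X : k[X]) ^ j = X ^ (p - 1) := by
    refine mul_right_cancel₀ (X_ne_zero : (X : k[X]) ≠ 0) ?_
    have h1 := geom_sum_mul (1 + X : k[X]) p
    rw [add_sub_cancel_left, add_pow_char, one_pow, add_sub_cancel_left] at h1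
    rw [h1, ← pow_succ, Nat.sub_add_cancel hp.out.one_le]
  have h2 := congrArg (aeval D) h
  simpa using h2

variable {k : Type*} [Field k] {G : Type*} [Group G] {V : Type*} [AddCommGroup V] [Module k V]
  (ρ : G →* Module.End k V)

/-- Conjugation on `End V`. -/
def cX : G →* Module.End k (Module.End k V) where
  toFun g := LinearMap.mulLeft k (ρ g) ∘ₗ LinearMap.mulRight k (ρ g⁻¹)
  map_one' := LinearMap.ext fun Y => by simp
  map_mul' g h := LinearMap.ext fun Y => by simp [mul_assoc]

theorem cX_apply (g : G) (Y : Module.End k V) : cX ρ g Y = ρ g * (Y * ρ g⁻¹) := rfl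

theorem cX_of_commute {g : G} {Y : Module.End k V} (h : Commute (ρ g) Y) : cX ρ g Y = Y := by
  rw [cX_apply, ← mul_assoc, h.eq, mul_assoc, ← map_mul, mul_inv_cancel, map_one, mul_one]

theorem one_add_pow_eq (n : Module.End k V) :
    ∀ j : ℕ, ∃ P : k[X], (1 + n) ^ j = 1 + (j : k) • n + n * n * aeval n P
  | 0 => ⟨0, by simp⟩
  | j + 1 => by
    obtain ⟨P, hP⟩ := one_add_pow_eq n j
    refine ⟨P + P * X + C (j : k), ?_⟩
    rw [pow_succ, hP, map_add, map_add, map_mul, aeval_X, aeval_C, Algebra.algebraMap_eq_smul_one]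
    simp only [mul_add, add_mul, one_mul, mul_one, smul_mul_assoc, mul_smul_comm, Nat.cast_add, Nat.cast_one,
      add_smul, one_smul, mul_assoc]
    abel

theorem trace_adN_mul [FiniteDimensional k V] (n Z F : Module.End k V) :
    (adN n Z * F).trace k V = -(Z * adN n F).trace k V := by
  rw [adN_apply, adN_apply, sub_mul, mul_sub, map_sub, map_sub, mul_assoc n Z F,
    LinearMap.trace_mul_comm k n (Z * F), mul_assoc Z F n, mul_assoc Z n F]
  ring

theorem adN_mul_of_commute (n Z s : Module.End k V) (h : Commute n s) : adN n (Z * s) = adN n Z * s := by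
  rw [adN_apply, adN_apply, sub_mul, mul_assoc, mul_assoc, mul_assoc, h.eq]

theorem trace_high (n F : Module.End k V) (hF : ∀ m, 2 ≤ m → (n ^ m * F).trace k V = 0) (P : k[X]) :
    (n * n * aeval n P * F).trace k V = 0 := by
  induction P using Polynomial.induction_on' with
  | add P Q hP hQ => rw [map_add, mul_add, add_mul, map_add, hP, hQ, add_zero]
  | monomial m a =>
    rw [aeval_monomial, Algebra.algebraMap_eq_smul_one, smul_mul_assoc, one_mul, mul_smul_comm, smul_mul_assoc,
      map_smul, ← pow_two, ← pow_add, hF _ (by omega), smul_zero]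

variable (p : ℕ) [hp : Fact p.Prime] [CharP k p] [Finite G] [FiniteDimensional k V]

/-- The three-dimensional module and its form. -/
theorem exists_three {x : G} (hx : orderOf x = p)
    (hN : ∀ y ∈ Subgroup.normalizer ((Subgroup.zpowers x : Subgroup G) : Set G), y ^ p = 1 → y ∈ Subgroup.zpowers x)
    (hidx : ¬ p ∣ (Subgroup.zpowers x).relIndex (Subgroup.normalizer ((Subgroup.zpowers x : Subgroup G) : Set G)))
    {d : ℕ} (hnil : (ρ x - 1) ^ d = 0) (hd : 2 * d + 1 ≤ p) (hne : ρ x ≠ 1) :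
    ∃ (M : G →* Module.End k (Fin 3 → k)) (B : (Fin 3 → k) →ₗ[k] (Fin 3 → k) →ₗ[k] k),
      (∀ z, M x z = ![z 0, z 1 + z 0, z 2 + z 1]) ∧ (∀ g y z, B (M g y) (M g z) = B y z) ∧
      (∀ y z, B y z = B z y) ∧ (∀ z, B ![0, 0, 1] z = z 0) ∧
      (∀ g, (∀ Y, Commute (ρ g) Y) → M g = 1) := by
  classical
  set u := ρ x with hu
  set u' := ρ x⁻¹ with hu'
  set n := u - 1 with hn
  have hun : u = 1 + n := by rw [hn]; abel
  have huu' : u * u' = 1 := by rw [hu, hu', ← map_mul, mul_inv_cancel, map_one]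
  have hu'u : u' * u = 1 := by rw [hu, hu', ← map_mul, inv_mul_cancel, map_one]
  have hcnu : Commute n u := by rw [hun]; exact (Commute.one_right n).add_right (Commute.refl n)
  have hcnu' : Commute n u' := by
    show n * u' = u' * n
    calc n * u' = (u' * u) * (n * u') := by rw [hu'u, one_mul]
      _ = u' * (u * n) * u' := by simp only [mul_assoc]
      _ = u' * (n * u) * u' := by rw [hcnu.eq]
      _ = u' * n * (u * u') := by simp only [mul_assoc]
      _ = u' * n := by rw [huu', mul_one]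
  have hn0 : n ≠ 0 := fun h => hne (by rw [hun, h, add_zero])
  have hd2 : 2 ≤ d := by
    by_contra h
    rcases (show d = 0 ∨ d = 1 by omega) with rfl | rfl
    · rw [pow_zero] at hnil
      exact hn0 (by rw [← mul_one n, hnil, mul_zero])
    · rw [pow_one] at hnil; exact hn0 hnil
  have hcast : ∀ j : ℕ, 0 < j → j < p → (j : k) ≠ 0 := fun j h1 h2 h => by
    rw [CharP.cast_eq_zero_iff k p] at h
    exact absurd (Nat.le_of_dvd h1 h) (by omega)
  have h2k : (2 : k) ≠ 0 := by exact_mod_cast hcast 2 (by omega) (by omega)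
  have hinv : ∀ j : ℕ, 0 < j → j ≤ d + 1 → (j : k) ≠ 0 := fun j h1 h2 => hcast j h1 (by omega)
  obtain ⟨π, F, hππ, hπn, -, -, -, hFF, hFtr, hFhigh⟩ :=
    exists_block n 1 (one_mul 1) (by rw [mul_one, one_mul]) hnil (by rwa [mul_one]) hinv h2k
  obtain ⟨W, hW⟩ := exists_double_commutator n hnil hinv h2k _ 1 le_rfl (one_mul 1) (by rw [mul_one, one_mul])
  rw [mul_one] at hW
  set τ := (n * F).trace k V with hτ
  -- the normaliser
  set P := Subgroup.zpowers x with hP
  set N := Subgroup.normalizer ((P : Subgroup G) : Set G) with hNdef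
  have hPN : P ≤ N := Subgroup.le_normalizer
  have hxN : x ∈ N := hPN (Subgroup.mem_zpowers x)
  have hm : ∀ g ∈ N, ∃ j : ℕ, g * x * g⁻¹ = x ^ j := by
    intro g hg
    have h1 := (Subgroup.mem_normalizer_iff.mp hg x).mp (Subgroup.mem_zpowers x)
    obtain ⟨j, hj⟩ := (isOfFinOrder_of_finite x).mem_powers_iff_mem_zpowers.mpr h1
    exact ⟨j, hj.symm⟩
  choose! m hm using hm
  have hmcast : ∀ i j : ℕ, x ^ i = x ^ j → (i : k) = j := by
    intro i j h
    rw [pow_eq_pow_iff_modEq, hx] at h
    exact (CharP.natCast_eq_natCast k p).mpr h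
  set a : G → k := fun g => (m g : k) with ha
  have hax : ∀ g ∈ N, ∀ j : ℕ, g * x * g⁻¹ = x ^ j → a g = j := fun g hg j h =>
    hmcast _ _ ((hm g hg).symm.trans h)
  have hmpow : ∀ g ∈ N, ∀ j : ℕ, g * x ^ j * g⁻¹ = x ^ (m g * j) := fun g hg j => by
    rw [← conj_pow, hm g hg, ← pow_mul]
  have hamul : ∀ g ∈ N, ∀ h ∈ N, a (g * h) = a g * a h := by
    intro g hg h hh
    rw [hax (g * h) (mul_mem hg hh) (m g * m h) (by
      rw [← hmpow g hg, ← hm h hh]; group), Nat.cast_mul]
  have haP : ∀ g ∈ P, a g = 1 := by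
    intro g hg
    obtain ⟨i, rfl⟩ := Subgroup.mem_zpowers_iff.mp hg
    have h := hax _ (hPN hg) 1 (by
      rw [pow_one, ((Commute.refl x).zpow_left i).eq, mul_inv_cancel_right])
    rw [h, Nat.cast_one]
  have ha0 : ∀ g ∈ N, a g ≠ 0 := by
    intro g hg h
    have h1 := hamul g hg g⁻¹ (inv_mem hg)
    rw [mul_inv_cancel, haP 1 (one_mem _), h, zero_mul] at h1
    exact one_ne_zero h1
  have hfree : ∀ g, g ∉ N → g⁻¹ * x * g ∉ N := by
    intro g hg h
    refine hg ?_
    have h1 : g⁻¹ * x * g ∈ P := hN _ h (by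
      rw [show g⁻¹ * x * g = g⁻¹ * x * g⁻¹⁻¹ by rw [inv_inv], conj_pow, ← hx, pow_orderOf_eq_one]
      group)
    have h2 : P.map (MulAut.conj g⁻¹).toMonoidHom = P := by
      refine Subgroup.eq_of_le_of_card_ge ?_ ?_
      · rw [hP, MonoidHom.map_zpowers, Subgroup.zpowers_le]
        simpa using h1
      · rw [Subgroup.card_map_of_injective (MulAut.conj g⁻¹).injective]
    exact inv_mem_iff.mp (Subgroup.mem_normalizer_iff_map_conj_eq.mpr h2)
  -- `D = c(x) - 1`
  set D : Module.End k (Module.End k V) := cX ρ x - 1 with hD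
  have hxD : cX ρ x = 1 + D := by rw [hD]; abel
  have hDad : ∀ Y, D Y = adN n Y * u' := by
    intro Y
    rw [hD, LinearMap.sub_apply, Module.End.one_apply, cX_apply, ← hu, ← hu', adN_apply, hn]
    simp only [sub_mul, mul_sub, one_mul, mul_one, mul_assoc, huu']
    abel
  have hD2ad : ∀ Y, D (D Y) = adN n (adN n Y) * (u' * u') := fun Y => by
    rw [hDad, hDad, adN_mul_of_commute _ _ _ hcnu', mul_assoc]
  have hDnil : D ^ (p - 1) = 0 := by
    have hD' : D = LinearMap.mulRight k u' * adN n := LinearMap.ext fun Y => hDad Y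
    have hcomm : Commute (LinearMap.mulRight k u') (adN n) := LinearMap.ext fun Y =>
      (adN_mul_of_commute _ _ _ hcnu').symm
    have had : adN n ^ (p - 1) = 0 := by
      show (LinearMap.mulLeft k n - LinearMap.mulRight k n) ^ (p - 1) = 0
      rw [sub_eq_add_neg]
      refine Commute.add_pow_eq_zero_of_add_le_succ_of_pow_eq_zero (m := d) (n := d) ?_ ?_ ?_ (by omega)
      · exact ((LinearMap.commute_mulLeft_right (R := k) n n)).neg_right
      · rw [LinearMap.pow_mulLeft, hnil]; exact LinearMap.mulLeft_zero_eq_zero k _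
      · rw [← neg_one_mul (LinearMap.mulRight k n), (Commute.neg_one_left _).mul_pow, LinearMap.pow_mulRight, hnil,
          LinearMap.mulRight_zero_eq_zero, mul_zero]
    rw [hD', hcomm.mul_pow, had, mul_zero]
  have hfixsum : ∀ Y, ∑ j ∈ Finset.range p, (cX ρ x ^ j) Y = 0 := by
    intro Y
    rw [← LinearMap.sum_apply, hxD, sum_pow_one_add (k := k) p D, hDnil]
    rfl
  -- the eigenvector
  let P' := P.subgroupOf N
  letI : Fintype (N ⧸ P') := Fintype.ofFinite _
  letI : Fintype (G ⧸ N) := Fintype.ofFinite _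
  set ι : k := ((Fintype.card (N ⧸ P') : ℕ) : k) with hι
  have hι0 : ι ≠ 0 := by
    rw [hι, Ne, CharP.cast_eq_zero_iff k p, ← Nat.card_eq_fintype_card]
    exact hidx
  have hcn : ∀ g ∈ N, ∃ Q : k[X], cX ρ g n = a g • n + n * n * aeval n Q := by
    intro g hg
    obtain ⟨Q, hQ⟩ := one_add_pow_eq n (m g)
    refine ⟨Q, ?_⟩
    have h1 : cX ρ g u = u ^ m g := by rw [cX_apply, hu, ← map_mul, ← map_mul, ← map_pow, ← mul_assoc, hm g hg]
    have h2 : cX ρ g 1 = 1 := cX_of_commute ρ (Commute.one_right _)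
    rw [hn, map_sub, h1, h2, hun, hQ]
    simp only [ha]
    abel
  have hcnfix : ∀ g ∈ P, cX ρ g n = n := by
    intro g hg
    obtain ⟨i, rfl⟩ := Subgroup.mem_zpowers_iff.mp hg
    refine cX_of_commute ρ ?_
    have h1 : Commute (ρ x) n := hcnu.symm
    have h2 : Commute (ρ x⁻¹) n := hcnu'.symm
    rcases Int.eq_nat_or_neg i with ⟨j, rfl | rfl⟩
    · rw [zpow_natCast, map_pow]; exact h1.pow_left j
    · rw [zpow_neg, zpow_natCast, ← inv_pow, map_pow]; exact h2.pow_left j
  set φv : N → Module.End k V := fun g => (a g)⁻¹ • cX ρ (g : G) n with hφv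
  have hφvP : ∀ g : N, ∀ h ∈ P', φv (g * h) = φv g := by
    intro g h hh
    have hh' : (h : G) ∈ P := hh
    simp only [hφv, Subgroup.coe_mul, hamul _ g.2 _ h.2, haP _ hh', mul_one, map_mul, Module.End.mul_apply,
      hcnfix _ hh']
  set v : Module.End k V := ι⁻¹ • ∑ q : N ⧸ P', φv q.out with hv
  have hvg : ∀ g ∈ N, cX ρ g v = a g • v := by
    intro g hg
    rw [hv, map_smul, map_sum, smul_comm]
    congr 1
    rw [← sum_coset_left φv hφvP ⟨g, hg⟩, Finset.smul_sum]
    refine Finset.sum_congr rfl fun q _ => ?_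
    simp only [hφv, Subgroup.coe_mul, map_smul, smul_smul, hamul _ hg _ (q.out).2]
    rw [← Module.End.mul_apply, ← map_mul]
    congr 1
    rw [mul_inv, ← mul_assoc, mul_inv_cancel₀ (ha0 g hg), one_mul]
  obtain ⟨R, hR⟩ : ∃ R : k[X], v = n + n * n * aeval n R := by
    choose Q hQ using fun q : N ⧸ P' => hcn _ (q.out).2
    refine ⟨ι⁻¹ • ∑ q, (a (q.out : N))⁻¹ • Q q, ?_⟩
    simp only [map_smul, map_sum, Finset.mul_sum, mul_smul_comm]
    rw [hv]
    simp only [hφv, hQ, smul_add, smul_smul, inv_mul_cancel₀ (ha0 _ (SetLike.coe_mem _)), one_smul,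
      Finset.sum_add_distrib, Finset.sum_const, Finset.card_univ]
    rw [← Nat.cast_smul_eq_nsmul k, smul_smul, ← hι, inv_mul_cancel₀ hι0, one_smul]
  -- the functional
  set f : Module.End k V →ₗ[k] k := τ⁻¹ • ((LinearMap.trace k V).comp (LinearMap.mulRight k F)) with hf
  have hfapp : ∀ Y, f Y = τ⁻¹ * (Y * F).trace k V := fun Y => rfl
  have hfv : f v = 1 := by
    rw [hfapp, hR, add_mul, map_add, trace_high n F hFhigh, add_zero, inv_mul_cancel₀ hFtr]
  have hfD3 : ∀ Y, f (D (D (D Y))) = 0 := by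
    intro Y
    rw [hfapp, hD2ad, hDad, mul_assoc (adN n (adN n (adN n Y * u'))), ← adN_mul_of_commute _ Y u' hcnu']
    rw [show adN n (adN n (adN n (Y * u'))) * (u' * u' * F) = adN n (adN n (adN n (Y * u' * (u' * u')))) * F by
      rw [adN_mul_of_commute _ _ _ (hcnu'.mul_right hcnu'), adN_mul_of_commute _ _ _ (hcnu'.mul_right hcnu'),
        adN_mul_of_commute _ _ _ (hcnu'.mul_right hcnu')]; simp only [mul_assoc]]
    rw [trace_adN_mul, trace_adN_mul, trace_adN_mul, hFF, adN_apply]
    rw [show n * (n * π) - n * π * n = 0 by rw [mul_assoc, ← hπn, sub_self]]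
    simp
  set q₀ : Module.End k V := 1 + n * aeval n R with hq₀
  have hvq : v = n * q₀ := by rw [hR, hq₀, mul_add, mul_one, mul_assoc]
  have hcq : Commute n q₀ := by
    rw [hq₀]
    refine (Commute.one_right n).add_right ((Commute.refl n).mul_right ?_)
    conv_lhs => rw [← aeval_X (R := k) n]
    exact (Commute.all X R).map (aeval n)
  set w := W * (q₀ * (u * u)) with hw
  have hDw : D (D w) = v := by
    rw [hD2ad, hw, adN_mul_of_commute _ _ _ (hcq.mul_right (hcnu.mul_right hcnu)),
      adN_mul_of_commute _ _ _ (hcq.mul_right (hcnu.mul_right hcnu)), hW, hvq]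
    rw [show n * (q₀ * (u * u)) * (u' * u') = n * q₀ * (u * (u * u') * u') by simp only [mul_assoc], huu',
      mul_one, huu', mul_one]
  have hDv : D v = 0 := by
    rw [hDad, adN_apply, hvq, show n * (n * q₀) - n * q₀ * n = 0 by rw [mul_assoc, ← hcq.eq, sub_self],
      zero_mul]
  -- the local projection
  set e₀ : Module.End k (Module.End k V) :=
    (f.comp (D * D)).smulRight w + (f.comp D).smulRight (D w) + f.smulRight v with he₀
  have he₀app : ∀ y, e₀ y = f (D (D y)) • w + f (D y) • D w + f y • v := fun y => rfl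
  have he₀D : ∀ y, e₀ (D y) = D (e₀ y) := by
    intro y
    rw [he₀app, he₀app, hfD3, zero_smul, zero_add, map_add, map_add, map_smul, map_smul, map_smul, hDw, hDv,
      smul_zero, add_zero]
  have he₀x : ∀ g ∈ P, cX ρ g * e₀ = e₀ * cX ρ g := by
    intro g hg
    obtain ⟨j, rfl⟩ := (isOfFinOrder_of_finite x).mem_powers_iff_mem_zpowers.mpr hg
    show cX ρ (x ^ j) * e₀ = e₀ * cX ρ (x ^ j)
    rw [map_pow]
    refine (Commute.pow_left ?_ j).eq
    rw [hxD]
    exact (Commute.one_left e₀).add_left (LinearMap.ext fun y => (he₀D y).symm)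
  have he₀fix : ∀ y, D y = 0 → e₀ y = f y • v := by
    intro y hy
    rw [he₀app, hy, map_zero, map_zero, zero_smul, zero_smul, zero_add, zero_add]
  have hDnorm : ∀ g ∈ N, ∀ y, D y = 0 → D (cX ρ g y) = 0 := by
    intro g hg y hy
    have hy' : cX ρ x y = y := by rwa [hD, LinearMap.sub_apply, Module.End.one_apply, sub_eq_zero] at hy
    have h1 : ∀ j : ℕ, cX ρ (x ^ j) y = y := by
      intro j
      induction j with
      | zero => simp
      | succ j ih => rw [pow_succ, map_mul, Module.End.mul_apply, hy', ih]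
    rw [hD, LinearMap.sub_apply, Module.End.one_apply, sub_eq_zero, ← Module.End.mul_apply, ← map_mul,
      show x * g = g * x ^ m g⁻¹ by rw [← hm g⁻¹ (inv_mem hg)]; group, map_mul, Module.End.mul_apply, h1]
  set φe : N → Module.End k (Module.End k V) := fun g => cX ρ (g : G) * e₀ * cX ρ (g : G)⁻¹ with hφe
  have hφeP : ∀ g : N, ∀ h ∈ P', φe (g * h) = φe g := by
    intro g h hh
    simp only [hφe, Subgroup.coe_mul, mul_inv_rev, map_mul, mul_assoc]
    have hh' : (h : G) ∈ P := hh
    rw [← mul_assoc (cX ρ (h : G)) e₀, he₀x _ hh', mul_assoc, ← mul_assoc (cX ρ (h : G)) (cX ρ (h : G)⁻¹),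
      ← map_mul, mul_inv_cancel, map_one, one_mul]
  set e : Module.End k (Module.End k V) := ι⁻¹ • ∑ q : N ⧸ P', φe q.out with he
  have heN : ∀ g ∈ N, cX ρ g * e * cX ρ g⁻¹ = e := by
    intro g hg
    rw [he, mul_smul_comm, smul_mul_assoc, Finset.mul_sum, Finset.sum_mul]
    congr 1
    rw [← sum_coset_left φe hφeP ⟨g, hg⟩]
    refine Finset.sum_congr rfl fun q _ => ?_
    simp only [hφe, Subgroup.coe_mul, mul_inv_rev, map_mul, mul_assoc]
  have hefix : ∀ y, D y = 0 → ∃ c : k, e y = c • v := by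
    intro y hy
    refine ⟨ι⁻¹ * ∑ q : N ⧸ P', f (cX ρ (q.out : G)⁻¹ y) * a (q.out : G), ?_⟩
    rw [he, LinearMap.smul_apply, LinearMap.sum_apply, mul_smul, Finset.sum_smul]
    congr 1
    refine Finset.sum_congr rfl fun q _ => ?_
    simp only [hφe, Module.End.mul_apply]
    rw [he₀fix _ (hDnorm _ (inv_mem (q.out).2) y hy), map_smul, hvg _ (q.out).2, smul_smul]
  have hev : e v = v := by
    rw [he, LinearMap.smul_apply, LinearMap.sum_apply]
    rw [Finset.sum_congr rfl fun q _ => show φe (q.out) v = v from ?_]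
    · rw [Finset.sum_const, Finset.card_univ, ← Nat.cast_smul_eq_nsmul k, smul_smul, ← hι, inv_mul_cancel₀ hι0,
        one_smul]
    · simp only [hφe, Module.End.mul_apply]
      rw [hvg _ (inv_mem (q.out).2), map_smul, he₀fix v hDv, hfv, one_smul, map_smul, hvg _ (q.out).2, smul_smul,
        ← hamul _ (inv_mem (q.out).2) _ (q.out).2, inv_mul_cancel, haP 1 (one_mem _), one_smul]
  -- the relative trace
  set φT : G → Module.End k (Module.End k V) := fun g => cX ρ g * e * cX ρ g⁻¹ with hφT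
  have hφTN : ∀ g : G, ∀ h ∈ N, φT (g * h) = φT g := by
    intro g h hh
    simp only [hφT, mul_inv_rev, map_mul]
    calc cX ρ g * cX ρ h * e * (cX ρ h⁻¹ * cX ρ g⁻¹)
        = cX ρ g * (cX ρ h * e * cX ρ h⁻¹) * cX ρ g⁻¹ := by simp only [mul_assoc]
      _ = cX ρ g * e * cX ρ g⁻¹ := by rw [heN h hh]
  set T : Module.End k (Module.End k V) := ∑ q : G ⧸ N, φT q.out with hT
  have hTG : ∀ g, cX ρ g * T = T * cX ρ g := by
    intro g
    have h1 : cX ρ g * T * cX ρ g⁻¹ = T := by
      rw [hT, Finset.mul_sum, Finset.sum_mul, ← sum_coset_left φT hφTN g]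
      refine Finset.sum_congr rfl fun q _ => ?_
      simp only [hφT, mul_inv_rev, map_mul, mul_assoc]
    calc cX ρ g * T = cX ρ g * T * (cX ρ g⁻¹ * cX ρ g) := by rw [← map_mul, inv_mul_cancel, map_one, mul_one]
      _ = cX ρ g * T * cX ρ g⁻¹ * cX ρ g := by simp only [mul_assoc]
      _ = T * cX ρ g := by rw [h1]
  have hTfix : ∀ y, D y = 0 → T y = e y := by
    intro y hy
    have hy' : cX ρ x y = y := by rwa [hD, LinearMap.sub_apply, Module.End.one_apply, sub_eq_zero] at hy
    have hxinv : ∀ j : ℕ, cX ρ (x ^ j)⁻¹ y = y := by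
      intro j
      have h1 : cX ρ (x ^ j) y = y := by
        induction j with
        | zero => simp
        | succ j ih => rw [pow_succ, map_mul, Module.End.mul_apply, hy', ih]
      conv_lhs => rw [← h1]
      rw [← Module.End.mul_apply, ← map_mul, inv_mul_cancel, map_one, Module.End.one_apply]
    rw [hT, LinearMap.sum_apply, sum_coset_base hx hxN hfree (fun g => φT g y)
      (fun g h hh => by rw [hφTN g h hh]) (fun g _ => ?_)]
    · simp [hφT]
    · have : ∀ j : ℕ, φT (x ^ j * g) y = (cX ρ x ^ j) (φT g y) := by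
        intro j
        simp only [hφT, mul_inv_rev, map_mul, Module.End.mul_apply, hxinv, ← map_pow]
      simp only [this]
      exact hfixsum _
  have hTv : T v = v := (hTfix v hDv).trans hev
  have hTfv : ∀ y, D y = 0 → ∃ c : k, T y = c • v := fun y hy => by
    rw [hTfix y hy]; exact hefix y hy
  -- the stable image
  obtain ⟨K, hK⟩ := Filter.eventually_atTop.mp T.eventually_isCompl_ker_pow_range_pow
  set Tm := T ^ (K + 1) with hTm
  set I := LinearMap.range Tm with hI
  have hTinj : ∀ y ∈ I, T y = 0 → y = 0 := by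
    intro y hy h
    refine Submodule.disjoint_def.mp (hK (K + 1) (by omega)).disjoint y ?_ hy
    rw [LinearMap.mem_ker, pow_succ, Module.End.mul_apply, h, map_zero]
  have hTmG : ∀ g, cX ρ g * Tm = Tm * cX ρ g := fun g => (Commute.pow_right (hTG g) _).eq
  have hTmv : Tm v = v := by
    rw [hTm]
    generalize K + 1 = j
    induction j with
    | zero => simp
    | succ j ih => rw [pow_succ, Module.End.mul_apply, hTv, ih]
  have hvI : v ∈ I := ⟨v, hTmv⟩
  have hIG : ∀ g, ∀ y ∈ I, cX ρ g y ∈ I := by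
    rintro g _ ⟨z, rfl⟩
    exact ⟨cX ρ g z, by rw [← Module.End.mul_apply, ← hTmG, Module.End.mul_apply]⟩
  have hID : ∀ y ∈ I, D y ∈ I := fun y hy => by
    rw [hD, LinearMap.sub_apply, Module.End.one_apply]
    exact I.sub_mem (hIG x y hy) hy
  have hIfix : ∀ y ∈ I, D y = 0 → ∃ c : k, y = c • v := by
    intro y hy h
    obtain ⟨c, hc⟩ := hTfv y h
    refine ⟨c, sub_eq_zero.mp (hTinj _ (I.sub_mem hy (I.smul_mem c hvI)) ?_)⟩
    rw [map_sub, map_smul, hTv, hc, sub_self]
  set i₀ := Tm w with hi₀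
  have hTmD : ∀ y, Tm (D y) = D (Tm y) := fun y => by
    have h1 := congrArg (fun E => E y) (hTmG x)
    simp only [Module.End.mul_apply] at h1
    rw [hD, LinearMap.sub_apply, LinearMap.sub_apply, map_sub, Module.End.one_apply, Module.End.one_apply, h1]
  have hi2 : D (D i₀) = v := by rw [hi₀, ← hTmD, ← hTmD, hDw, hTmv]
  have hi₀I : i₀ ∈ I := ⟨w, rfl⟩
  have hv0 : v ≠ 0 := fun h => one_ne_zero (by rw [← hfv, h, map_zero])
  have hD3 : ∀ y ∈ I, D (D (D y)) = 0 := by
    intro y hy
    have hmem : ∀ j, (D ^ j) y ∈ I := by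
      intro j
      induction j with
      | zero => exact hy
      | succ j ih => rw [pow_succ', Module.End.mul_apply]; exact hID _ ih
    have hstep : ∀ j, 3 ≤ j → (D ^ (j + 1)) y = 0 → (D ^ j) y = 0 := by
      intro j hj h
      rw [pow_succ', Module.End.mul_apply] at h
      obtain ⟨c, hc⟩ := hIfix _ (hmem j) h
      have h1 : f ((D ^ j) y) = 0 := by
        obtain ⟨i, rfl⟩ : ∃ i, j = i + 3 := ⟨j - 3, by omega⟩
        rw [show i + 3 = i + 1 + 1 + 1 by omega, pow_succ', pow_succ', pow_succ']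
        exact hfD3 _
      rw [hc, map_smul, hfv, smul_eq_mul, mul_one] at h1
      rw [hc, h1, zero_smul]
    have hdown : ∀ t, ∀ j, 3 ≤ j → j + t = p + 3 → (D ^ j) y = 0 := by
      intro t
      induction t with
      | zero =>
        intro j _ h
        rw [show j = (p - 1) + 4 by have := hp.out.one_le; omega, pow_add, hDnil, zero_mul]
        rfl
      | succ t ih => intro j hj h; exact hstep j hj (ih (j + 1) (by omega) (by omega))
    exact hdown p 3 le_rfl (by omega)
  -- coordinates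
  set emb : (Fin 3 → k) →ₗ[k] Module.End k V := Fintype.linearCombination k ![i₀, D i₀, v] with hemb
  have hembapp : ∀ z, emb z = z 0 • i₀ + z 1 • D i₀ + z 2 • v := fun z => by
    rw [hemb, Fintype.linearCombination_apply, Fin.sum_univ_three]
    rfl
  have hDemb : ∀ z, D (emb z) = z 0 • D i₀ + z 1 • v := fun z => by
    rw [hembapp, map_add, map_add, map_smul, map_smul, map_smul, hi2, hDv, smul_zero, add_zero]
  have hinj : Function.Injective emb := by
    rw [← LinearMap.ker_eq_bot, LinearMap.ker_eq_bot']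
    intro z hz
    have h1 := congrArg D hz
    rw [hDemb, map_zero] at h1
    have h2 := congrArg D h1
    rw [map_add, map_smul, map_smul, hi2, hDv, smul_zero, add_zero, map_zero, smul_eq_zero_iff_left hv0] at h2
    rw [h2, zero_smul, zero_add, smul_eq_zero_iff_left hv0] at h1
    rw [hembapp, h2, h1, zero_smul, zero_smul, zero_add, zero_add, smul_eq_zero_iff_left hv0] at hz
    funext i
    fin_cases i <;> assumption
  have hrange : LinearMap.range emb = I := by
    refine le_antisymm ?_ ?_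
    · rintro _ ⟨z, rfl⟩
      rw [hembapp]
      exact I.add_mem (I.add_mem (I.smul_mem _ hi₀I) (I.smul_mem _ (hID _ hi₀I))) (I.smul_mem _ hvI)
    · intro y hy
      obtain ⟨α, hα⟩ := hIfix _ (hID _ (hID _ hy)) (hD3 y hy)
      have hy1 : y - α • i₀ ∈ I := I.sub_mem hy (I.smul_mem _ hi₀I)
      obtain ⟨β, hβ⟩ := hIfix _ (hID _ hy1) (by rw [map_sub, map_smul, map_sub, map_smul, hi2, hα, sub_self])
      have hy2 : y - α • i₀ - β • D i₀ ∈ I := I.sub_mem hy1 (I.smul_mem _ (hID _ hi₀I))
      obtain ⟨γ, hγ⟩ := hIfix _ hy2 (by rw [map_sub, map_smul, hi2, hβ, sub_self])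
      refine ⟨![α, β, γ], ?_⟩
      rw [hembapp]
      show α • i₀ + β • D i₀ + γ • v = y
      rw [← hγ]; abel
  set L : (Fin 3 → k) ≃ₗ[k] I := (LinearEquiv.ofInjective emb hinj).trans (LinearEquiv.ofEq _ _ hrange) with hL
  have hLapp : ∀ z, (L z : Module.End k V) = emb z := fun z => rfl
  let Mf : G → Module.End k (Fin 3 → k) := fun g =>
    L.symm.toLinearMap ∘ₗ (LinearMap.restrict (cX ρ g) (hIG g)) ∘ₗ L.toLinearMap
  have hMf : ∀ g z, emb (Mf g z) = cX ρ g (emb z) := fun g z => by
    rw [← hLapp, ← hLapp]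
    simp only [Mf, LinearMap.comp_apply, LinearEquiv.coe_coe, LinearEquiv.apply_symm_apply,
      LinearMap.restrict_coe_apply]
  let M : G →* Module.End k (Fin 3 → k) :=
    { toFun := Mf
      map_one' := LinearMap.ext fun z => hinj (by rw [hMf]; simp)
      map_mul' := fun g h => LinearMap.ext fun z => hinj (by
        rw [hMf, Module.End.mul_apply, hMf, hMf, map_mul, Module.End.mul_apply]) }
  have hM : ∀ g z, emb (M g z) = cX ρ g (emb z) := hMf
  have hMx : ∀ z, M x z = ![z 0, z 1 + z 0, z 2 + z 1] := fun z => hinj (by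
    rw [hM, hxD, LinearMap.add_apply, Module.End.one_apply, hDemb, hembapp, hembapp]
    show _ = z 0 • i₀ + (z 1 + z 0) • D i₀ + (z 2 + z 1) • v
    rw [add_smul, add_smul]; abel)
  have hMv : ∀ g ∈ N, M g ![0, 0, 1] = a g • (![0, 0, 1] : Fin 3 → k) := fun g hg => hinj (by
    rw [hM, map_smul]
    have : emb ![0, 0, 1] = v := by rw [hembapp]; simp
    rw [this, hvg g hg])
  have hMxpow : ∀ (j : ℕ) (z : Fin 3 → k), M (x ^ j) z 0 = z 0 ∧ M (x ^ j) z 1 = z 1 + (j : k) * z 0 ∧
      ∃ c : k, M (x ^ j) z 2 = z 2 + (j : k) * z 1 + c * z 0 := by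
    intro j z
    induction j with
    | zero => simp
    | succ j ih =>
      obtain ⟨h0, h1, c, h2⟩ := ih
      rw [pow_succ', map_mul, Module.End.mul_apply, hMx]
      refine ⟨by simpa using h0, ?_, c + j, ?_⟩
      · show _ + _ = _
        rw [h1, h0]; push_cast; ring
      · show _ + _ = _
        rw [h2, h1]; push_cast; ring
  have hMfst : ∀ g ∈ N, ∀ z, a g * M g z 0 = z 0 := by
    intro g hg z
    have hcomm : ∀ y, M g (M x y) = M (x ^ m g) (M g y) := fun y => by
      rw [← Module.End.mul_apply, ← map_mul, ← hm g hg, ← Module.End.mul_apply, ← map_mul]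
      congr 2
      group
    set A0 := M g ![1, 0, 0] with hA0
    set A1 := M g ![0, 1, 0] with hA1
    set A2 := M g ![0, 0, 1] with hA2
    have e0 : M g (M x ![1, 0, 0]) = A0 + A1 := by
      rw [hMx, hA0, hA1, ← map_add]
      congr 1; funext i; fin_cases i <;> simp
    have e1 : M g (M x ![0, 1, 0]) = A1 + A2 := by
      rw [hMx, hA1, hA2, ← map_add]
      congr 1; funext i; fin_cases i <;> simp
    obtain ⟨p0, p1, -⟩ := hMxpow (m g) A0
    obtain ⟨-, -, c, q2⟩ := hMxpow (m g) A1
    have h10 : A1 0 = 0 := by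
      have h := congrFun ((hcomm ![1, 0, 0]).symm.trans e0) 0
      rw [← hA0, p0, Pi.add_apply] at h
      simpa using h
    have h11 : A1 1 = a g * A0 0 := by
      have h := congrFun ((hcomm ![1, 0, 0]).symm.trans e0) 1
      rw [← hA0, p1, Pi.add_apply] at h
      exact (add_left_cancel h).symm
    have h22 : A2 2 = a g := by rw [hA2, hMv g hg]; simp
    have h20 : A2 0 = 0 := by rw [hA2, hMv g hg]; simp
    have h00 : a g * A0 0 = 1 := by
      have h := congrFun ((hcomm ![0, 1, 0]).symm.trans e1) 2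
      rw [← hA1, q2, Pi.add_apply, h10, h11, mul_zero, add_zero, h22] at h
      have h' : a g * (a g * A0 0) = a g * 1 := by
        rw [mul_one]
        exact add_left_cancel h
      exact mul_left_cancel₀ (ha0 g hg) h'
    have hz : z = z 0 • ![1, 0, 0] + z 1 • ![0, 1, 0] + z 2 • ![0, 0, 1] := by
      funext i; fin_cases i <;> simp
    conv_lhs => rw [hz, map_add, map_add, map_smul, map_smul, map_smul]
    simp only [Pi.add_apply, Pi.smul_apply, smul_eq_mul, ← hA0, ← hA1, ← hA2, h10, h20]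
    linear_combination (z 0) * h00
  -- the form
  let pr : Fin 3 → (Fin 3 → k) →ₗ[k] k := fun i => LinearMap.proj i
  set B₀ : (Fin 3 → k) →ₗ[k] (Fin 3 → k) →ₗ[k] k :=
    (pr 0).smulRight (pr 2) + (pr 2).smulRight (pr 0) +
      (2 : k)⁻¹ • ((pr 0).smulRight (pr 1) + (pr 1).smulRight (pr 0)) - (pr 1).smulRight (pr 1) with hB₀
  have hB₀app : ∀ y z, B₀ y z =
      y 0 * z 2 + y 2 * z 0 + (2 : k)⁻¹ * (y 0 * z 1 + y 1 * z 0) - y 1 * z 1 := fun y z => by
    simp [hB₀, pr]; ring
  have h22k : (2 : k) * (2 : k)⁻¹ = 1 := mul_inv_cancel₀ h2k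
  have hB₀x : ∀ y z, B₀ (M x y) (M x z) = B₀ y z := by
    intro y z
    rw [hB₀app, hB₀app, hMx, hMx]
    simp only [Matrix.cons_val_zero, Matrix.cons_val_one, Matrix.cons_val]
    linear_combination (y 0 * z 0) * h22k
  have hB₀P : ∀ g ∈ P, ∀ y z, B₀ (M g y) (M g z) = B₀ y z := by
    intro g hg
    obtain ⟨j, rfl⟩ := (isOfFinOrder_of_finite x).mem_powers_iff_mem_zpowers.mpr hg
    intro y z
    show B₀ (M (x ^ j) y) (M (x ^ j) z) = _
    induction j with
    | zero => simp
    | succ j ih =>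
      rw [pow_succ', map_mul, Module.End.mul_apply, Module.End.mul_apply, hB₀x]
      exact ih (pow_mem (Subgroup.mem_zpowers x) j)
  set φb : N → (Fin 3 → k) →ₗ[k] (Fin 3 → k) →ₗ[k] k :=
    fun g => B₀.compl₁₂ (M (g : G)⁻¹) (M (g : G)⁻¹) with hφb
  have hφbP : ∀ g : N, ∀ h ∈ P', φb (g * h) = φb g := by
    intro g h hh
    refine LinearMap.ext fun y => LinearMap.ext fun z => ?_
    simp only [hφb, LinearMap.compl₁₂_apply, Subgroup.coe_mul, mul_inv_rev, map_mul, Module.End.mul_apply]
    have hh' : (h : G) ∈ P := hh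
    exact hB₀P _ (inv_mem hh') _ _
  set B₁ := ι⁻¹ • ∑ q : N ⧸ P', φb q.out with hB₁
  have hB₁N : ∀ g ∈ N, B₁.compl₁₂ (M g⁻¹) (M g⁻¹) = B₁ := by
    intro g hg
    refine LinearMap.ext fun y => LinearMap.ext fun z => ?_
    simp only [hB₁, LinearMap.compl₁₂_apply, LinearMap.smul_apply, LinearMap.sum_apply]
    congr 1
    have h := sum_coset_left (fun q => φb q y z) (fun q h hh => by rw [hφbP q h hh]) ⟨g, hg⟩
    rw [← h]
    refine Finset.sum_congr rfl fun q _ => ?_
    simp only [hφb, LinearMap.compl₁₂_apply, Subgroup.coe_mul, mul_inv_rev, map_mul, Module.End.mul_apply]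
  have hB₁v : ∀ z, B₁ ![0, 0, 1] z = z 0 := by
    intro z
    simp only [hB₁, LinearMap.smul_apply, LinearMap.sum_apply, hφb, LinearMap.compl₁₂_apply]
    rw [Finset.sum_congr rfl fun (q : N ⧸ P') _ => show B₀ (M ((q.out : N) : G)⁻¹ ![0, 0, 1])
        (M ((q.out : N) : G)⁻¹ z) = z 0 from ?_]
    · rw [Finset.sum_const, Finset.card_univ, ← Nat.cast_smul_eq_nsmul k, smul_eq_mul, smul_eq_mul, ← hι,
        ← mul_assoc, inv_mul_cancel₀ hι0, one_mul]
    · rw [hMv _ (inv_mem (q.out).2), hB₀app]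
      simp only [Pi.smul_apply, smul_eq_mul, Matrix.cons_val_zero, Matrix.cons_val_one, Matrix.cons_val]
      linear_combination hMfst _ (inv_mem (q.out).2) z
  set φB : G → (Fin 3 → k) →ₗ[k] (Fin 3 → k) →ₗ[k] k := fun g => B₁.compl₁₂ (M g⁻¹) (M g⁻¹) with hφB
  have hφBN : ∀ g : G, ∀ h ∈ N, φB (g * h) = φB g := by
    intro g h hh
    refine LinearMap.ext fun y => LinearMap.ext fun z => ?_
    simp only [hφB, LinearMap.compl₁₂_apply, mul_inv_rev, map_mul, Module.End.mul_apply]
    exact congrArg (fun b => b (M g⁻¹ y) (M g⁻¹ z)) (hB₁N h hh)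
  set B := ∑ q : G ⧸ N, φB q.out with hB
  have hBG : ∀ g y z, B (M g y) (M g z) = B y z := by
    intro g y z
    simp only [hB, LinearMap.sum_apply]
    rw [← sum_coset_left (fun q => φB q (M g y) (M g z)) (fun q h hh => by rw [hφBN q h hh]) g]
    refine Finset.sum_congr rfl fun q _ => ?_
    simp only [hφB, LinearMap.compl₁₂_apply, mul_inv_rev, map_mul, Module.End.mul_apply]
    rw [← Module.End.mul_apply (M g⁻¹) (M g), ← Module.End.mul_apply (M g⁻¹) (M g), ← map_mul,
      inv_mul_cancel, map_one, Module.End.one_apply, Module.End.one_apply]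
  refine ⟨M, B, hMx, hBG, fun y z => ?_, fun z => ?_, fun g hg => ?_⟩
  · simp only [hB, hφB, hB₁, hφb, LinearMap.sum_apply, LinearMap.smul_apply, LinearMap.compl₁₂_apply, hB₀app]
    refine Finset.sum_congr rfl fun q _ => ?_
    congr 1
    exact Finset.sum_congr rfl fun r _ => by ring
  · simp only [hB, LinearMap.sum_apply]
    have hvfix : ∀ j : ℕ, M (x ^ j)⁻¹ ![0, 0, 1] = (![0, 0, 1] : Fin 3 → k) := by
      intro j
      rw [hMv _ (inv_mem (pow_mem hxN j)), haP _ (inv_mem (pow_mem (Subgroup.mem_zpowers x) j)), one_smul]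
    have hS : ∀ y : Fin 3 → k, ∑ j ∈ Finset.range p, M (x ^ j)⁻¹ y = 0 := by
      intro y
      simp only [← inv_pow, map_pow]
      rw [← LinearMap.sum_apply]
      set S := M x⁻¹ with hSdef
      have h3 : (S - 1) ^ 3 = 0 := by
        have hSz : ∀ z, (S - 1) z = ![0, -z 0, z 0 - z 1] := fun z => by
          have hinvz : S z = ![z 0, z 1 - z 0, z 2 - z 1 + z 0] := by
            have hb : M x ![z 0, z 1 - z 0, z 2 - z 1 + z 0] = z := by
              rw [hMx]; funext i; fin_cases i <;> simp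
            conv_lhs => rw [← hb]
            rw [hSdef, ← Module.End.mul_apply, ← map_mul, inv_mul_cancel, map_one, Module.End.one_apply]
          rw [LinearMap.sub_apply, Module.End.one_apply, hinvz]
          funext i; fin_cases i <;> simp <;> ring
        refine LinearMap.ext fun z => ?_
        rw [pow_succ, pow_succ, pow_one, Module.End.mul_apply, Module.End.mul_apply, hSz, hSz, hSz]
        funext i; fin_cases i <;> simp
      rw [show S = 1 + (S - 1) by abel, sum_pow_one_add (k := k) p (S - 1),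
        show p - 1 = 3 + (p - 1 - 3) by omega, pow_add, h3, zero_mul]
      rfl
    rw [sum_coset_base hx hxN hfree (fun g => φB g ![0, 0, 1] z) (fun g h hh => by rw [hφBN g h hh])
      (fun g _ => ?_)]
    · simp [hφB, hB₁v]
    · simp only [hφB, LinearMap.compl₁₂_apply, mul_inv_rev, map_mul, Module.End.mul_apply, hvfix]
      rw [← map_sum, ← map_sum, hS, map_zero, map_zero]
  · refine LinearMap.ext fun z => hinj ?_
    rw [hM, Module.End.one_apply]
    exact cX_of_commute ρ (hg _)

end CfsgLib.SmallLinear.HalfPrime
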