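import Cfsg.Agent.Lib.SmallLinear.HalfPrime.GroupFacts
import Cfsg.Agent.Lib.SmallLinear.HalfPrime.Trace
import Cfsg.Agent.Lib.SmallLinear.HalfPrime.AdjointThree
import Cfsg.Agent.Lib.SmallLinear.HalfPrime.Recognise
import Cfsg.Agent.Lib.CharBlocks.IntegralRep

/-!
# From a faithful character of degree `(p - 1) / 2` to `PSL(2, p)`
-/

set_option autoImplicit false
set_option maxHeartbeats 800000

noncomputable section

namespace CfsgLib.SmallLinear.HalfPrime

open Cfsg Matrix

universe u

variable {G : Type u} [Group G] [Finite G] {p : ℕ} [hp : Fact p.Prime] {χ : G → ℂ} {d : ℕ}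

/-- A matrix of finite order prime to `p` with trivial reduction is trivial. -/
theorem eq_one_of_map_eq_one {R : Type*} [CommRing R] [IsDomain R] {k : Type*} [Field k] [CharP k p]
    (red : R →+* k) {n : ℕ} (M : Matrix (Fin n) (Fin n) R) {q : ℕ} (hq : ¬ p ∣ q) (hM : M ^ q = 1)
    (h : M.map red = 1) : M = 1 := by
  classical
  set S := ∑ i ∈ Finset.range q, M ^ i with hS
  have hSred : red.mapMatrix S = (q : k) • 1 := by
    have h1 : red.mapMatrix M = 1 := h
    rw [hS, map_sum, Finset.sum_congr rfl (fun i _ => by rw [map_pow, h1, one_pow]), Finset.sum_const,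
      Finset.card_range, Nat.cast_smul_eq_nsmul]
  have hdet : S.det ≠ 0 := by
    intro h0
    have h1 : (red.mapMatrix S).det = 0 := by rw [← RingHom.map_det, h0, map_zero]
    rw [hSred, Matrix.det_smul, Matrix.det_one, mul_one] at h1
    exact hq ((CharP.cast_eq_zero_iff k p q).mp (pow_eq_zero_iff'.mp h1).1)
  have h2 : S * (M - 1) = 0 := by rw [hS, geom_sum_mul, hM, sub_self]
  have h3 : S.det • (M - 1) = 0 := by
    have h4 := congrArg (fun T => S.adjugate * T) h2
    simpa only [← mul_assoc, Matrix.adjugate_mul, Matrix.smul_mul, one_mul, mul_zero] using h4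
  refine sub_eq_zero.mp (Matrix.ext fun i j => ?_)
  have := congrFun (congrFun h3 i) j
  simp only [Matrix.smul_apply, smul_eq_mul, Matrix.zero_apply, mul_eq_zero, hdet, false_or] at this
  rw [this, Matrix.zero_apply]

/-- The homomorphism to `PGL(2)` with kernel the center. -/
theorem exists_pgl (hdvd : p ∣ Nat.card G) (hsq : ¬ p ^ 2 ∣ Nat.card G)
    (hnn : ∀ H : Subgroup G, H.Normal → Nat.card H ≠ p)
    (hχ : IsCharacter G χ) (hfaith : ∀ g, χ g = χ 1 → g = 1) (hd : χ 1 = d) (hdp : 2 * d + 1 = p) :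
    ∃ (k : Type) (_ : Field k) (_ : IsAlgClosed k) (_ : CharP k p)
      (Θ : G →* Matrix.ProjGenLinGroup (Fin 2) k), Θ.ker = Subgroup.center G := by
  classical
  have hcP := fun P : Sylow p G => card_sylow_prime hdvd hsq P
  have hP : ∀ P : Sylow p G, ¬ (P : Subgroup G).Normal := fun P h => hnn _ h (hcP P)
  obtain ⟨P₀⟩ := (inferInstance : Nonempty (Sylow p G))
  have hd2 := two_le_degree P₀ (hP P₀) hχ hfaith hd hdp
  obtain ⟨R, hR⟩ := CfsgLib.CharBlocks.exists_pLocal p
  obtain ⟨n, A, hAR, hA⟩ := CfsgLib.CharBlocks.exists_integral_matrix R hχ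
  have hnd : d = n := by
    have h := hA 1
    rw [map_one, Matrix.trace_one, Fintype.card_fin, hd] at h
    exact_mod_cast h.symm
  subst hnd
  let k := AlgebraicClosure (IsLocalRing.ResidueField R)
  let red : R →+* k := (algebraMap (IsLocalRing.ResidueField R) k).comp (IsLocalRing.residue R)
  haveI hchar : CharP k p := by
    refine (CharP.charP_iff_prime_eq_zero hp.out).mpr ?_
    rw [← map_natCast red p]
    have h1 : ((p : ℕ) : R) ∈ IsLocalRing.maximalIdeal R := by
      rw [ValuationSubring.valuation_lt_one_iff]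
      simpa using hR
    show algebraMap _ _ (IsLocalRing.residue R (p : R)) = 0
    rw [(IsLocalRing.residue_eq_zero_iff _).mpr h1, map_zero]
  let A' : G →* Matrix (Fin d) (Fin d) R :=
    { toFun := fun g => Matrix.of fun i j => ⟨A g i j, hAR g i j⟩
      map_one' := by
        refine Matrix.map_injective (f := R.subtype) Subtype.val_injective ?_
        dsimp only
        rw [Matrix.map_one _ (map_zero _) (map_one _)]
        ext i j
        show A 1 i j = _
        rw [map_one]
      map_mul' := fun g h => by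
        refine Matrix.map_injective (f := R.subtype) Subtype.val_injective ?_
        dsimp only
        rw [Matrix.map_mul]
        ext i j
        show A (g * h) i j = _
        rw [map_mul]
        rfl }
  have hA' : ∀ g, (A' g).map R.subtype = A g := fun g => rfl
  have hAfaith : ∀ g, A' g = 1 → g = 1 := fun g hg => hfaith g (by
    rw [← hA, ← hA, ← hA', hg, Matrix.map_one _ (map_zero _) (map_one _), map_one])
  let ρ : G →* Module.End k (Fin d → k) :=
    (Matrix.toLinAlgEquiv' : Matrix (Fin d) (Fin d) k ≃ₐ[k] Module.End k (Fin d → k)).toMonoidHom.comp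
      ((red.mapMatrix).toMonoidHom.comp A')
  have hρ : ∀ g, ρ g = Matrix.toLinAlgEquiv' ((A' g).map red) := fun g => rfl
  -- faithful
  have hρ1 : ∀ g, ρ g = 1 → g = 1 := by
    have hp' : ∀ g, ρ g = 1 → ¬ p ∣ orderOf g → g = 1 := fun g hg ho => hAfaith g <|
      eq_one_of_map_eq_one red (A' g) ho (by rw [← map_pow, pow_orderOf_eq_one, map_one])
        (Matrix.toLinAlgEquiv'.injective (by rw [← hρ, hg, map_one]))
    have hpow : ∀ g, ρ g = 1 → g ^ p = 1 := fun g hg => by
      by_cases ho : p ∣ orderOf g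
      · refine hp' _ (by rw [map_pow, hg, one_pow]) ?_
        rw [orderOf_pow' g hp.out.ne_zero, Nat.gcd_eq_right ho]
        intro h2
        obtain ⟨c, hc⟩ := h2
        refine hsq (dvd_trans ⟨c, ?_⟩ (orderOf_dvd_natCard g))
        rw [← Nat.div_mul_cancel ho, hc]; ring
      · rw [hp' g hg ho, one_pow]
    have hK : IsPGroup p (MonoidHom.ker ρ) := fun g => ⟨1, Subtype.ext (by
      rw [pow_one, Subgroup.coe_pow, Subgroup.coe_one]; exact hpow g g.2)⟩
    obtain ⟨i, hi⟩ := IsPGroup.iff_card.mp hK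
    have hi1 : i ≤ 1 := by
      by_contra h
      exact hsq ((pow_dvd_pow p (show 2 ≤ i by omega)).trans (hi ▸ Subgroup.card_subgroup_dvd_card _))
    intro g hg
    rcases Nat.le_one_iff_eq_zero_or_eq_one.mp hi1 with rfl | rfl
    · have : g ∈ (⊥ : Subgroup G) := by
        rw [← (Subgroup.card_eq_one (H := MonoidHom.ker ρ)).mp (by rw [hi, pow_zero])]; exact hg
      simpa using this
    · exact absurd (by rw [hi, pow_one]) (hnn (MonoidHom.ker ρ) inferInstance)
  obtain ⟨x, hx⟩ := exists_prime_orderOf_dvd_card' (G := G) p hdvd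
  have hxne : ρ x ≠ 1 := fun h => by
    rw [hρ1 x h, orderOf_one] at hx
    exact hp.out.ne_one hx.symm
  have hcz : Nat.card (Subgroup.zpowers x) = p := by rw [Nat.card_zpowers, hx]
  let P : Sylow p G := Sylow.ofCard (Subgroup.zpowers x) (by
    rw [hcz, ← P₀.card_eq_multiplicity]; exact (hcP P₀).symm)
  have hPz : (P : Subgroup G) = Subgroup.zpowers x := rfl
  have hnil : (ρ x - 1) ^ d = 0 := by
    haveI : Nonempty (Fin d) := ⟨⟨0, by omega⟩⟩
    haveI : CharP (Module.End k (Fin d → k)) p :=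
      charP_of_injective_algebraMap (algebraMap k (Module.End k (Fin d → k))).injective p
    have h1 : (ρ x - 1) ^ p = 0 := by
      rw [sub_pow_char_of_commute _ (Commute.one_right (ρ x)), ← map_pow, one_pow, ← hx, pow_orderOf_eq_one, map_one,
        sub_self]
    have h2 := LinearMap.aeval_self_charpoly (ρ x - 1)
    rw [IsNilpotent.charpoly_eq_X_pow_finrank ⟨p, h1⟩, map_pow, Polynomial.aeval_X, Module.finrank_fin_fun] at h2
    exact h2
  have hN : ∀ y ∈ Subgroup.normalizer ((Subgroup.zpowers x : Subgroup G) : Set G), y ^ p = 1 →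
      y ∈ Subgroup.zpowers x := by
    intro y hy hyp
    have hpg : IsPGroup p (Subgroup.zpowers y) := fun z => by
      obtain ⟨i, hi⟩ := Subgroup.mem_zpowers_iff.mp z.2
      refine ⟨1, Subtype.ext ?_⟩
      rw [pow_one, Subgroup.coe_pow, Subgroup.coe_one, ← hi, ← zpow_natCast, ← _root_.zpow_mul, mul_comm, _root_.zpow_mul,
        zpow_natCast, hyp, _root_.one_zpow]
    have h2 : y ∈ Subgroup.zpowers y ⊓ Subgroup.normalizer ((P : Subgroup G) : Set G) :=
      ⟨Subgroup.mem_zpowers _, hy⟩
    exact ((SetLike.ext_iff.mp (hpg.inf_normalizer_sylow P) _).mp h2).2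
  have hidx : ¬ p ∣ (Subgroup.zpowers x).relIndex
      (Subgroup.normalizer ((Subgroup.zpowers x : Subgroup G) : Set G)) := fun h =>
    P.not_dvd_index (h.trans (Subgroup.relIndex_dvd_index_of_le Subgroup.le_normalizer))
  obtain ⟨M, B, hMx, hB, hsymm, hBv, hMker⟩ :=
    exists_three ρ p hx hN hidx hnil (by omega) hxne
  have h2k : (2 : k) ≠ 0 := by
    intro h
    have h' := (CharP.cast_eq_zero_iff k p 2).mp (by exact_mod_cast h)
    have := Nat.le_of_dvd two_pos h'
    omega
  obtain ⟨Θ, hΘx, hΘ1, -⟩ := exists_hom_PGL h2k M B x hMx hB hsymm hBv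
  refine ⟨k, inferInstance, inferInstance, hchar, Θ, le_antisymm ?_ fun z hz => ?_⟩
  · refine le_center_of_coprime hsq hP hχ hfaith hd hdp _ fun h => hΘx ?_
    obtain ⟨y, hy⟩ := exists_prime_orderOf_dvd_card' (G := MonoidHom.ker Θ) p h
    have hy' : orderOf (y : G) = p := by rwa [Subgroup.orderOf_coe]
    let Q : Sylow p G := Sylow.ofCard (Subgroup.zpowers (y : G)) (by
      rw [Nat.card_zpowers, hy', ← P₀.card_eq_multiplicity]; exact (hcP P₀).symm)
    obtain ⟨g, hg⟩ := MulAction.exists_smul_eq G Q P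
    have hxP : x ∈ (P : Subgroup G) := Subgroup.mem_zpowers x
    rw [← hg, Sylow.coe_subgroup_smul] at hxP
    obtain ⟨w, hw, hwx⟩ := hxP
    have hwK : w ∈ MonoidHom.ker Θ := Subgroup.zpowers_le.mpr y.2 hw
    rw [← hwx]
    exact (inferInstance : (MonoidHom.ker Θ).Normal).conj_mem w hwK g
  · refine hΘ1 z (hMker z fun Y => ?_)
    let σ : Representation ℂ G (Fin d → ℂ) :=
      (Matrix.toLinAlgEquiv' : Matrix (Fin d) (Fin d) ℂ ≃ₐ[ℂ] Module.End ℂ (Fin d → ℂ)).toMonoidHom.comp A
    have hσ : σ.character z = χ z := by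
      rw [← hA z, Representation.character, LinearMap.trace_eq_matrix_trace ℂ (Pi.basisFun ℂ (Fin d))]
      congr 1
      exact LinearMap.toMatrix'_toLin' (A z)
    obtain ⟨ω, hω⟩ := (CfsgLib.Char.norm_character_eq_iff σ z).mp (by
      rw [hσ, Module.finrank_fin_fun]; exact norm_center hsq P₀ (hP P₀) hχ hfaith hd hdp hz)
    have hAz : A z = ω • (1 : Matrix (Fin d) (Fin d) ℂ) := by
      refine Matrix.toLinAlgEquiv'.injective ?_
      rw [map_smul, map_one]
      exact hω
    let i₀ : Fin d := ⟨0, by omega⟩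
    have hωR : ω ∈ R := by
      have := hAR z i₀ i₀
      rwa [hAz, Matrix.smul_apply, Matrix.one_apply_eq, smul_eq_mul, mul_one] at this
    have hA'z : A' z = (⟨ω, hωR⟩ : R) • 1 := by
      refine Matrix.ext fun i j => Subtype.ext ?_
      show A z i j = _
      rw [hAz]
      by_cases hij : i = j
      · subst hij; simp
      · simp [Matrix.one_apply_ne hij]
    rw [hρ, hA'z]
    have : ((⟨ω, hωR⟩ : R) • (1 : Matrix (Fin d) (Fin d) R)).map red = red ⟨ω, hωR⟩ • 1 := by
      refine Matrix.ext fun i j => ?_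
      by_cases hij : i = j
      · subst hij; simp
      · simp [Matrix.one_apply_ne hij]
    rw [this, map_smul, map_one]
    exact (Commute.one_left Y).smul_left _

/-- The quotient by the center is `PSL(2, p)`. -/
theorem psl_of_faithful (hdvd : p ∣ Nat.card G) (hsq : ¬ p ^ 2 ∣ Nat.card G)
    (hnn : ∀ H : Subgroup G, H.Normal → Nat.card H ≠ p)
    (hχ : IsCharacter G χ) (hfaith : ∀ g, χ g = χ 1 → g = 1) (hd : χ 1 = d) (hdp : 2 * d + 1 = p) :
    Nonempty ((G ⧸ Subgroup.center G) ≃* Matrix.ProjectiveSpecialLinearGroup (Fin 2) (ZMod p)) := by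
  have hcP := fun P : Sylow p G => card_sylow_prime hdvd hsq P
  have hP : ∀ P : Sylow p G, ¬ (P : Subgroup G).Normal := fun P h => hnn _ h (hcP P)
  obtain ⟨P₀⟩ := (inferInstance : Nonempty (Sylow p G))
  have hd2 := two_le_degree P₀ (hP P₀) hχ hfaith hd hdp
  obtain ⟨k, _, _, _, Θ, hker⟩ := exists_pgl hdvd hsq hnn hχ hfaith hd hdp
  have hZ : ¬ p ∣ Nat.card (Subgroup.center G) := fun h => by
    obtain ⟨y, hy⟩ := exists_prime_orderOf_dvd_card' (G := Subgroup.center G) p h
    refine hnn (Subgroup.zpowers (y : G)) ⟨fun w hw g => ?_⟩ (by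
      rw [Nat.card_zpowers, Subgroup.orderOf_coe, hy])
    have hwc : w ∈ Subgroup.center G := Subgroup.zpowers_le.mpr y.2 hw
    rwa [Subgroup.mem_center_iff.mp hwc g, mul_inv_cancel_right]
  haveI : Finite Θ.range := Finite.of_surjective Θ.rangeRestrict Θ.rangeRestrict_surjective
  have hKr : ∀ y : G, Θ.rangeRestrict y = 1 ↔ y ∈ Subgroup.center G := fun y => by
    rw [← hker, MonoidHom.mem_ker]
    exact ⟨fun h => congrArg Subtype.val h, fun h => Subtype.ext h⟩
  have hmul : Nat.card Θ.range * Nat.card (Subgroup.center G) = Nat.card G := by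
    rw [← hker, Subgroup.card_eq_card_quotient_mul_card_subgroup Θ.ker,
      Nat.card_congr (QuotientGroup.quotientKerEquivRange Θ).toEquiv]
  have hrdvd : p ∣ Nat.card Θ.range := by
    rw [← hmul] at hdvd
    exact (hp.out.dvd_mul.mp hdvd).resolve_right hZ
  have hrsq : ¬ p ^ 2 ∣ Nat.card Θ.range := fun h => hsq (hmul ▸ h.mul_right _)
  have hrnn : ∀ P : Sylow p Θ.range, ¬ (P : Subgroup Θ.range).Normal := by
    intro P hPn
    haveI := Sylow.unique_of_normal P hPn
    have hsub : Subsingleton (Sylow p Θ.range) := inferInstance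
    let M := (P : Subgroup Θ.range).comap Θ.rangeRestrict
    haveI : M.Normal := Subgroup.Normal.comap hPn _
    have hPM : (P₀ : Subgroup G) ≤ M := by
      intro y hy
      show Θ.rangeRestrict y ∈ (P : Subgroup Θ.range)
      rw [← Subsingleton.elim (P₀.mapSurjective Θ.rangeRestrict_surjective) P]
      exact ⟨y, hy, rfl⟩
    haveI : IsCyclic (P : Subgroup Θ.range) := isCyclic_of_prime_card (p := p) (card_sylow_prime hrdvd hrsq P)
    let f : M →* (P : Subgroup Θ.range) := (Θ.rangeRestrict.comp M.subtype).codRestrict _ fun y => y.2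
    have hf : f.ker ≤ Subgroup.center M := fun y hy => Subgroup.mem_center_iff.mpr fun w => Subtype.ext (by
      have h1 : Θ.rangeRestrict (y : G) = 1 := congrArg Subtype.val (MonoidHom.mem_ker.mp hy)
      exact Subgroup.mem_center_iff.mp ((hKr _).mp h1) w)
    refine hP P₀ (normal_of_le_comm P₀ M hPM fun a ha b hb => ?_)
    exact congrArg Subtype.val (commutative_of_cyclic_center_quotient f hf ⟨a, ha⟩ ⟨b, hb⟩)
  have hrcop : ∀ N : Subgroup Θ.range, N.Normal → ¬ p ∣ Nat.card N → N = ⊥ := by
    intro N hN hpN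
    haveI : (N.comap Θ.rangeRestrict).Normal := hN.comap _
    have hM : ¬ p ∣ Nat.card (N.comap Θ.rangeRestrict) := fun h => by
      obtain ⟨y, hy⟩ := exists_prime_orderOf_dvd_card' (G := N.comap Θ.rangeRestrict) p h
      refine hZ ?_
      have h1 : Θ.rangeRestrict (y : G) = 1 := by
        have hyN : Θ.rangeRestrict (y : G) ∈ N := y.2
        have h2 : orderOf (⟨_, hyN⟩ : N) ∣ p := by
          rw [← Subgroup.orderOf_coe, ← hy, ← Subgroup.orderOf_coe y]
          exact orderOf_map_dvd _ _
        rcases (Nat.dvd_prime hp.out).mp h2 with h3 | h3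
        · exact congrArg Subtype.val (orderOf_eq_one_iff.mp h3)
        · exact absurd (h3 ▸ orderOf_dvd_natCard _) hpN
      have hyc := (hKr _).mp h1
      rw [← hy, ← Subgroup.orderOf_coe y, ← Subgroup.orderOf_mk (y : G) hyc]
      exact orderOf_dvd_natCard _
    have hle := le_center_of_coprime hsq hP hχ hfaith hd hdp _ hM
    refine (Subgroup.eq_bot_iff_forall _).mpr fun w hw => ?_
    obtain ⟨y, rfl⟩ := Θ.rangeRestrict_surjective w
    exact (hKr y).mpr (hle hw)
  have hrpow : ∀ w : Θ.range, orderOf w = p → ¬ ∀ j : ℕ, 0 < j → j < p → ∃ g, g * w * g⁻¹ = w ^ j := by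
    intro w hw hall
    obtain ⟨y, hy⟩ := Θ.rangeRestrict_surjective w
    -- replace `y` by its `p`-part
    have hyp : y ^ p ∈ Subgroup.center G := (hKr _).mp (by rw [map_pow, hy, ← hw, pow_orderOf_eq_one])
    obtain ⟨r, -, hr⟩ : ∃ r, True ∧ Nat.card (Subgroup.center G) * r % p = 1 := by
      obtain ⟨r, hr⟩ := Nat.exists_mul_mod_eq_one_of_coprime
        (hp.out.coprime_iff_not_dvd.mpr hZ).symm hp.out.one_lt
      exact ⟨r, trivial, hr.2⟩
    set x := y ^ (Nat.card (Subgroup.center G) * r) with hx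
    have hxw : Θ.rangeRestrict x = w := by
      rw [hx, map_pow, hy]
      have h3 := pow_mod_orderOf w (Nat.card (Subgroup.center G) * r)
      rw [hw, hr, pow_one] at h3
      exact h3.symm
    have hxp : x ^ p = 1 := by
      rw [hx, ← pow_mul, show Nat.card (Subgroup.center G) * r * p = p * Nat.card (Subgroup.center G) * r by ring,
        pow_mul, pow_mul]
      have h4 : (y ^ p) ^ Nat.card (Subgroup.center G) = 1 :=
        congrArg Subtype.val (pow_card_eq_one' (x := (⟨y ^ p, hyp⟩ : Subgroup.center G)))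
      rw [h4, one_pow]
    have hxo : orderOf x = p := orderOf_eq_prime hxp fun h => by
      rw [h, map_one] at hxw
      rw [← hxw, orderOf_one] at hw
      exact hp.out.ne_one hw.symm
    refine not_conj_all_powers hχ hfaith hd hdp hxo fun j hj hjp => ?_
    obtain ⟨g', hg'⟩ := hall j hj hjp
    obtain ⟨g, rfl⟩ := Θ.rangeRestrict_surjective g'
    refine ⟨g, ?_⟩
    rw [← hxw, ← map_mul, ← map_inv, ← map_mul, ← map_pow] at hg'
    have hz : (x ^ j)⁻¹ * (g * x * g⁻¹) ∈ Subgroup.center G :=
      (hKr _).mp (by rw [map_mul, map_inv, hg', inv_mul_cancel])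
    have hcomm : Commute (x ^ j) ((x ^ j)⁻¹ * (g * x * g⁻¹)) := Subgroup.mem_center_iff.mp hz _
    have hzp : ((x ^ j)⁻¹ * (g * x * g⁻¹)) ^ p = 1 := by
      have h5 := hcomm.mul_pow p
      rw [mul_inv_cancel_left, conj_pow, hxp, mul_one, mul_inv_cancel, ← pow_mul, mul_comm j p, pow_mul, hxp, one_pow,
        one_mul] at h5
      exact h5.symm
    have hz1 : (x ^ j)⁻¹ * (g * x * g⁻¹) = 1 := by
      rcases (Nat.dvd_prime hp.out).mp (orderOf_dvd_of_pow_eq_one hzp) with h6 | h6
      · exact orderOf_eq_one_iff.mp h6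
      · exact absurd (h6 ▸ Subgroup.orderOf_mk _ hz ▸ orderOf_dvd_natCard (⟨_, hz⟩ : Subgroup.center G)) hZ
    exact (inv_mul_eq_one.mp hz1).symm
  obtain ⟨e⟩ := recognise p Θ.range (by omega) hrdvd hrsq hrnn hrcop hrpow
  exact ⟨(QuotientGroup.quotientMulEquivOfEq hker.symm).trans ((QuotientGroup.quotientKerEquivRange Θ).trans e)⟩

end CfsgLib.SmallLinear.HalfPrime
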